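/-
Fixed points of an element of prime order `p > 3` whose normal closure is the whole (solvable)
group, in a nontrivial transitive action: at most a third of the points.
-/
import Mathlib.GroupTheory.Solvable
import Mathlib.GroupTheory.GroupAction.Quotient
import Mathlib.GroupTheory.OrderOfElement
import Mathlib.GroupTheory.Index
import Mathlib.GroupTheory.QuotientGroup.Basic
import Mathlib.Data.SetLike.Fintype
import Mathlib.GroupTheory.SpecificGroups.Cyclic
import Mathlib.Tactic.Ring
import Mathlib.Tactic.Group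

set_option autoImplicit false

namespace Cfsg.Agent.Lib.Flavell19.Perm

/-- Representatives of the orbits of a permutation of prime order. -/
theorem exists_orbit_reps {α : Type*} [Finite α] (e : Equiv.Perm α) {p : ℕ} (hp : p.Prime)
    (he : e ^ p = 1) :
    ∃ S : Finset α, (∀ a, ∃ i : ℕ, (e ^ i) a ∈ S) ∧
      p * S.card = Nat.card α + (p - 1) * Nat.card {a // e a = a} := by
  classical
  cases nonempty_fintype α
  by_cases h1 : e = 1
  · refine ⟨Finset.univ, fun a => ⟨0, Finset.mem_univ _⟩, ?_⟩
    have h2 : Nat.card {a // e a = a} = Nat.card α :=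
      Nat.card_congr (Equiv.subtypeUnivEquiv fun a => by simp [h1])
    rw [h2, Finset.card_univ, ← Nat.card_eq_fintype_card]
    obtain ⟨q, rfl⟩ := Nat.exists_eq_add_of_le hp.one_le
    rw [Nat.add_sub_cancel_left]
    ring
  set H := Subgroup.zpowers e with hH
  have hord : orderOf e = p := haveI := Fact.mk hp; orderOf_eq_prime he h1
  haveI : Fintype H := Fintype.ofFinite H
  set Ω := Quotient (MulAction.orbitRel H α)
  haveI : Fintype Ω := Fintype.ofFinite Ω
  refine ⟨Finset.univ.image (fun ω : Ω => ω.out), fun a => ?_, ?_⟩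
  · have h := Quotient.out_eq' (Quotient.mk'' a : Ω)
    rw [Quotient.eq''] at h
    obtain ⟨⟨g, hg⟩, hga⟩ := h
    obtain ⟨i, rfl⟩ := (mem_powers_iff_mem_zpowers (x := e) (y := g)).mpr hg
    refine ⟨i, Finset.mem_image.mpr ⟨Quotient.mk'' a, Finset.mem_univ _, ?_⟩⟩
    exact hga.symm
  · rw [Finset.card_image_of_injective _ Quotient.out_injective, Finset.card_univ]
    have hcard : Fintype.card H = p := by
      rw [← Nat.card_eq_fintype_card, hH, Nat.card_zpowers, hord]
    have hB := MulAction.sum_card_fixedBy_eq_card_orbits_mul_card_group H α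
    rw [hcard] at hB
    have hfix : ∀ g : H, Fintype.card (MulAction.fixedBy α g) =
        if g = 1 then Nat.card α else Nat.card {a // e a = a} := by
      intro g
      rw [← Nat.card_eq_fintype_card]
      split_ifs with hg
      · subst hg
        exact Nat.card_congr (Equiv.subtypeUnivEquiv fun a => by simp)
      · refine Nat.card_congr (Equiv.subtypeEquivRight fun a => ?_)
        obtain ⟨g, hg'⟩ := g
        have hgg : Subgroup.zpowers g = H := by
          haveI := Fact.mk hp
          have hcard' : Nat.card H = p := by rw [Nat.card_eq_fintype_card, hcard]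
          have h3 : Subgroup.zpowers (⟨g, hg'⟩ : H) = ⊤ :=
            zpowers_eq_top_of_prime_card hcard' hg
          have h4 := congrArg (Subgroup.map H.subtype) h3
          rwa [MonoidHom.map_zpowers, ← MonoidHom.range_eq_map, Subgroup.range_subtype] at h4
        constructor
        · intro ha
          have hle : H ≤ MulAction.stabilizer (Equiv.Perm α) a := by
            rw [← hgg, Subgroup.zpowers_le]
            exact ha
          exact hle (Subgroup.mem_zpowers e)
        · intro ha
          have hle : H ≤ MulAction.stabilizer (Equiv.Perm α) a := by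
            rw [hH, Subgroup.zpowers_le]
            exact ha
          exact hle hg'
    rw [Finset.sum_congr rfl fun g _ => hfix g,
      ← Finset.add_sum_erase _ _ (Finset.mem_univ (1 : H)), if_pos rfl,
      Finset.sum_congr rfl fun g hg => if_neg (Finset.ne_of_mem_erase hg), Finset.sum_const,
      Finset.card_erase_of_mem (Finset.mem_univ _), Finset.card_univ, hcard, smul_eq_mul] at hB
    rw [hB, mul_comm]

/-- In an abelian group an automorphism of order `p > 3` fixes at most a third of the elements. -/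
theorem fixed_third {Q : Type*} [Group Q] [Finite Q] (hcomm : ∀ a b : Q, a * b = b * a)
    (σ : Q ≃* Q) {p : ℕ} (hp : p.Prime) (hp2 : p ≠ 2) (hσp : ∀ a, (⇑σ)^[p] a = a) {a₀ : Q}
    (ha₀ : σ a₀ ≠ a₀) : 3 * Nat.card {a // σ a = a} ≤ Nat.card Q := by
  let C : Subgroup Q :=
    { carrier := {a | σ a = a}
      one_mem' := map_one σ
      mul_mem' := fun {a b} (ha : σ a = a) (hb : σ b = b) => by
        change σ (a * b) = a * b
        rw [map_mul, ha, hb]
      inv_mem' := fun {a} (ha : σ a = a) => by
        change σ a⁻¹ = a⁻¹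
        rw [map_inv, ha] }
  change 3 * Nat.card C ≤ Nat.card Q
  have hne1 : C.index ≠ 1 := fun h => ha₀ (by
    have : a₀ ∈ C := by rw [Subgroup.index_eq_one.mp h]; trivial
    exact this)
  have hne2 : C.index ≠ 2 := by
    intro h2
    set c := a₀⁻¹ * σ a₀ with hc
    have hca : σ a₀ = a₀ * c := by rw [hc]; group
    have hc2 : c * c = 1 := by
      have h : σ (a₀ * a₀) = a₀ * a₀ := Subgroup.mul_self_mem_of_index_two h2 a₀
      rw [map_mul, hca] at h
      letI : CommGroup Q := { ‹Group Q› with mul_comm := hcomm }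
      rw [mul_mul_mul_comm] at h
      exact mul_eq_left.mp h
    have hcC : σ c = c := by
      have hb : σ a₀ ∉ C := fun h => ha₀ (σ.injective h)
      have hab : a₀⁻¹ * σ a₀ ∈ C :=
        (Subgroup.mul_mem_iff_of_index_two h2).mpr (iff_of_false
          (fun h => ha₀ (by
            have h' : a₀ ∈ C := by simpa using C.inv_mem h
            exact h')) hb)
      exact hab
    have hit : ∀ i : ℕ, (⇑σ)^[i] a₀ = a₀ * c ^ i := by
      intro i
      induction i with
      | zero => simp
      | succ i ih =>
        rw [Function.iterate_succ_apply', ih, map_mul, map_pow, hcC, hca, mul_assoc, ← pow_succ']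
    have hcp : c ^ p = 1 := by
      have h := hit p
      rw [hσp] at h
      exact mul_left_cancel (h.symm.trans (mul_one a₀).symm)
    have hc1 : c = 1 := by
      obtain ⟨m, hm⟩ := hp.odd_of_ne_two hp2
      rw [hm, pow_add, pow_mul, sq, hc2, one_pow, one_mul, pow_one] at hcp
      exact hcp
    exact ha₀ (by rw [hca, hc1, mul_one])
  have hpos : C.index ≠ 0 := Subgroup.index_ne_zero_of_finite
  rw [← C.card_mul_index, mul_comm 3]
  exact Nat.mul_le_mul_left _ (by omega)

/-- The bound for transitive actions on cosets. -/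
theorem coset_fixed_third {G : Type*} [Group G] [Finite G] [Group.IsSolvable G] {p : ℕ}
    (hp : p.Prime) (hp2 : p ≠ 2) :
    ∀ (n : ℕ) (M : Subgroup G), M.index = n → M ≠ ⊤ →
      ∀ x : G, orderOf x = p → Subgroup.normalClosure {x} = ⊤ →
      3 * Nat.card {c : G ⧸ M // x • c = c} ≤ M.index := by
  classical
  intro n
  induction n using Nat.strong_induction_on with
  | _ n ih =>
  intro M hn hM x hx hgen
  by_cases hmax : ∃ K, M < K ∧ K < ⊤
  · obtain ⟨K, hMK, hK⟩ := hmax
    have hidx : M.relIndex K * K.index = M.index := Subgroup.relIndex_mul_index hMK.le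
    have hne : M.relIndex K ≠ 1 := fun h => hMK.not_ge (Subgroup.relIndex_eq_one.mp h)
    have hKpos : K.index ≠ 0 := Subgroup.index_ne_zero_of_finite
    have hMpos : M.index ≠ 0 := Subgroup.index_ne_zero_of_finite
    have hlt : K.index < n := by
      rw [← hn, ← hidx]
      refine lt_mul_of_one_lt_left (Nat.pos_of_ne_zero hKpos) ?_
      have : M.relIndex K ≠ 0 := fun h => hMpos (by rw [← hidx, h, zero_mul])
      omega
    have hih := ih K.index hlt K rfl hK.ne x hx hgen
    let E := Subgroup.quotientEquivProdOfLE hMK.le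
    have hE : ∀ c : G ⧸ M, x • c = c → x • (E c).1 = (E c).1 := by
      intro c hc
      obtain ⟨g, rfl⟩ := QuotientGroup.mk_surjective c
      change ((x * g : G) : G ⧸ K) = (g : G ⧸ K)
      have h : ((x * g : G) : G ⧸ M) = (g : G ⧸ M) := hc
      rw [QuotientGroup.eq] at h ⊢
      exact hMK.le h
    let F : {c : G ⧸ M // x • c = c} → {c : G ⧸ K // x • c = c} × (K ⧸ M.subgroupOf K) :=
      fun c => (⟨(E c.1).1, hE c.1 c.2⟩, (E c.1).2)
    have hF : Function.Injective F := by
      intro a b h
      have h1 := congrArg (fun t => ((t.1 : G ⧸ K), t.2)) h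
      exact Subtype.ext (E.injective h1)
    have hle := Nat.card_le_card_of_injective F hF
    rw [Nat.card_prod] at hle
    have hrel : Nat.card (K ⧸ M.subgroupOf K) = M.relIndex K := rfl
    rw [hrel] at hle
    calc 3 * Nat.card {c : G ⧸ M // x • c = c}
        ≤ 3 * (Nat.card {c : G ⧸ K // x • c = c} * M.relIndex K) := Nat.mul_le_mul_left _ hle
      _ = (3 * Nat.card {c : G ⧸ K // x • c = c}) * M.relIndex K := by ring
      _ ≤ K.index * M.relIndex K := Nat.mul_le_mul_right _ hih
      _ = M.index := by rw [mul_comm, hidx]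
  push_neg at hmax
  by_cases hf : IsEmpty {c : G ⧸ M // x • c = c}
  · rw [Nat.card_of_isEmpty]; simp
  rw [not_isEmpty_iff] at hf
  obtain ⟨⟨c₀, hc₀⟩⟩ := hf
  obtain ⟨g, rfl⟩ := QuotientGroup.mk_surjective c₀
  set y := g⁻¹ * x * g with hy
  have hyM : y ∈ M := by
    have h : ((x * g : G) : G ⧸ M) = (g : G ⧸ M) := hc₀
    rw [QuotientGroup.eq] at h
    have h' := M.inv_mem h
    simpa [hy, mul_assoc] using h'
  have hyord : orderOf y = p := by
    rw [← hx, hy]
    simpa using (orderOf_injective (MulAut.conj g⁻¹).toMonoidHom (MulAut.conj g⁻¹).injective x)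
  have hygen : Subgroup.normalClosure {y} = ⊤ := by
    rw [eq_top_iff, ← hgen]
    refine Subgroup.normalClosure_le_normal (Set.singleton_subset_iff.mpr ?_)
    have h := (Subgroup.normalClosure_normal (s := {y})).conj_mem y
      (Subgroup.subset_normalClosure rfl) g
    simpa [hy, mul_assoc] using h
  have htrans : Nat.card {c : G ⧸ M // x • c = c} = Nat.card {c : G ⧸ M // y • c = c} := by
    refine Nat.card_congr ((MulAction.toPerm g⁻¹).subtypeEquiv fun c => ?_)
    simp only [MulAction.toPerm_apply, hy, mul_smul, smul_inv_smul, smul_left_cancel_iff]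
  rw [htrans]
  clear_value y
  clear htrans hc₀ hy hgen hx
  -- the first derived term inside `M`
  obtain ⟨k, hk⟩ := (Group.isSolvable_def G).mp inferInstance
  have hex : ∃ j, derivedSeries G j ≤ M := ⟨k, by rw [hk]; exact bot_le⟩
  obtain ⟨A, hAn, hAM, hA'⟩ : ∃ A : Subgroup G, A.Normal ∧ ¬ A ≤ M ∧ ⁅A, A⁆ ≤ M := by
    rcases hj : Nat.find hex with _ | j
    · exact absurd (top_unique (by simpa [hj] using Nat.find_spec hex)) hM
    · refine ⟨derivedSeries G j, derivedSeries_normal G j, Nat.find_min hex (by omega), ?_⟩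
      have h := Nat.find_spec hex
      rwa [hj, derivedSeries_succ] at h
  haveI := hAn
  have hsup : A ⊔ M = ⊤ := by
    by_contra h
    exact hmax (A ⊔ M) (lt_of_le_of_ne le_sup_right fun e => hAM (le_sup_left.trans_eq e.symm))
      (lt_top_iff_ne_top.mpr h)
  set L : Subgroup A := M.subgroupOf A with hL
  have hcL : ∀ a b : A, a * b * a⁻¹ * b⁻¹ ∈ L := fun a b => by
    rw [hL, Subgroup.mem_subgroupOf]
    exact hA' (by simpa [commutatorElement_def] using Subgroup.commutator_mem_commutator a.2 b.2)
  haveI : L.Normal := ⟨fun n hn a => by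
    have h := L.mul_mem (hcL a n) hn
    simpa [mul_assoc] using h⟩
  have hcommQ : ∀ a b : A ⧸ L, a * b = b * a := by
    rintro ⟨a⟩ ⟨b⟩
    refine QuotientGroup.eq.mpr ?_
    have h := hcL b⁻¹ a⁻¹
    simpa [mul_assoc] using h
  let conjy : A ≃* A :=
    { toFun := fun a => ⟨y * a * y⁻¹, hAn.conj_mem a a.2 y⟩
      invFun := fun a => ⟨y⁻¹ * a * y, by simpa using hAn.conj_mem a a.2 y⁻¹⟩
      left_inv := fun a => Subtype.ext (by simp [mul_assoc])
      right_inv := fun a => Subtype.ext (by simp [mul_assoc])
      map_mul' := fun a b => Subtype.ext (by simp [mul_assoc]) }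
  have hLmap : L.map (conjy : A →* A) = L := by
    refine Subgroup.eq_of_le_of_card_ge ?_ (le_of_eq
      (Subgroup.card_map_of_injective conjy.injective).symm)
    rintro _ ⟨a, ha, rfl⟩
    exact M.mul_mem (M.mul_mem hyM ha) (M.inv_mem hyM)
  let σ : (A ⧸ L) ≃* (A ⧸ L) := QuotientGroup.congr L L conjy hLmap
  let Φ : A ⧸ L → G ⧸ M := Quotient.map' (fun a : A => (a : G)) fun a b h => by
    rw [QuotientGroup.leftRel_apply] at h ⊢
    exact h
  have hΦbij : Function.Bijective Φ := by
    refine ⟨?_, ?_⟩
    · rintro ⟨a⟩ ⟨b⟩ h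
      exact QuotientGroup.eq.mpr (QuotientGroup.eq.mp (h : ((a : G) : G ⧸ M) = (b : G)) :)
    · intro c
      obtain ⟨g', rfl⟩ := QuotientGroup.mk_surjective c
      have hg' : g' ∈ A ⊔ M := by rw [hsup]; trivial
      rw [← SetLike.mem_coe, Subgroup.normal_mul] at hg'
      obtain ⟨a, ha, m, hm, rfl⟩ := Set.mem_mul.mp hg'
      exact ⟨((⟨a, ha⟩ : A) : A ⧸ L), QuotientGroup.eq.mpr (by simpa using hm)⟩
  have hequiv : ∀ q : A ⧸ L, Φ (σ q) = y • Φ q := by
    rintro ⟨a⟩
    refine QuotientGroup.eq.mpr ?_
    simpa [conjy, mul_assoc] using hyM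
  have hnf : ∃ a₀, σ a₀ ≠ a₀ := by
    by_contra h
    push_neg at h
    have hcore : y ∈ M.normalCore := by
      intro g'
      obtain ⟨q, hq⟩ := hΦbij.2 ((g'⁻¹ : G) : G ⧸ M)
      have h1 : ((y * g'⁻¹ : G) : G ⧸ M) = ((g'⁻¹ : G) : G ⧸ M) := by
        change y • ((g'⁻¹ : G) : G ⧸ M) = _
        rw [← hq, ← hequiv, h]
      rw [QuotientGroup.eq] at h1
      simpa [mul_assoc] using M.inv_mem h1
    exact hM (top_unique (hygen ▸ (Subgroup.normalClosure_le_normal
      (Set.singleton_subset_iff.mpr hcore)).trans M.normalCore_le))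
  obtain ⟨a₀, ha₀⟩ := hnf
  have hσp : ∀ q, (⇑σ)^[p] q = q := by
    rintro ⟨a⟩
    have hit : ∀ i : ℕ, ∀ a : A, (⇑σ)^[i] (a : A ⧸ L) =
        (((⇑conjy)^[i] a : A) : A ⧸ L) := by
      intro i
      induction i with
      | zero => intro a; rfl
      | succ i ih => intro a; rw [Function.iterate_succ_apply', ih, Function.iterate_succ_apply']; rfl
    refine (hit p a).trans (congrArg _ (Subtype.ext ?_))
    have hit' : ∀ i : ℕ, ((((⇑conjy)^[i] a : A)) : G) = y ^ i * a * (y ^ i)⁻¹ := by
      intro i
      induction i with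
      | zero => simp
      | succ i ih =>
        rw [Function.iterate_succ_apply', pow_succ']
        change y * _ * y⁻¹ = _
        rw [ih, mul_inv_rev]
        simp [mul_assoc]
    rw [hit', ← hyord, pow_orderOf_eq_one]
    simp
  have h3 := fixed_third hcommQ σ hp hp2 hσp ha₀
  have hcardQ : Nat.card (A ⧸ L) = M.index := Nat.card_eq_of_bijective Φ hΦbij
  have hfix : Nat.card {q // σ q = q} = Nat.card {c : G ⧸ M // y • c = c} := by
    refine Nat.card_congr ((Equiv.ofBijective Φ hΦbij).subtypeEquiv fun q => ?_)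
    simp only [Equiv.ofBijective_apply, ← hequiv]
    exact hΦbij.1.eq_iff.symm
  rwa [hcardQ, hfix] at h3

end Cfsg.Agent.Lib.Flavell19.Perm
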