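/-
The orbit count on a symplectic quotient.
-/
import Mathlib.Data.Nat.Prime.Basic
import Mathlib.Tactic.Ring
import Mathlib.Tactic.Linarith
import Mathlib.Tactic.IntervalCases
import Mathlib.Tactic.NormNum.Prime

set_option autoImplicit false

namespace Cfsg.Agent.Lib.Flavell19.Arith

theorem four_orbits_le {p r d j O : ℕ} (hp : p.Prime) (hp3 : 3 < p) (hr : r.Prime) (hj : 2 ≤ j)
    (hjd : j ≤ d) (hO : p * O = r ^ d + (p - 1) * r ^ (d - j)) : 4 * O ≤ r ^ d := by
  have hpow : r ^ d = r ^ (d - j) * r ^ j := by rw [← pow_add, Nat.sub_add_cancel hjd]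
  rw [hpow] at hO ⊢
  set F := r ^ (d - j)
  set t := r ^ j with ht
  have hp5 : 5 ≤ p := by
    have : p ≠ 4 := fun h => absurd (h ▸ hp) (by decide)
    omega
  have ht4 : 4 ≤ t := le_trans (by decide : 4 ≤ 2 ^ 2)
    ((Nat.pow_le_pow_left hr.two_le 2).trans (Nat.pow_le_pow_right hr.pos hj))
  obtain ⟨q, rfl⟩ : ∃ q, p = q + 5 := ⟨p - 5, by omega⟩
  have hq : q + 5 - 1 = q + 4 := rfl
  rw [hq] at hO
  have key : 4 * (q + 4) ≤ (q + 1) * t := by
    by_cases hrp : r = q + 5
    · subst hrp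
      have : (q + 5) ^ 2 ≤ t := Nat.pow_le_pow_right (by omega) hj
      nlinarith
    have hdvd : (q + 5) ∣ t + (q + 4) := by
      have h1 : (q + 5) ∣ F * (t + (q + 4)) := ⟨O, by rw [hO]; ring⟩
      refine (hp.dvd_mul.mp h1).resolve_left fun h => hrp ?_
      exact ((Nat.prime_dvd_prime_iff_eq hp hr).mp (hp.dvd_of_dvd_pow h)).symm
    obtain ⟨c, hc⟩ := hdvd
    have hc2 : 2 ≤ c := by
      by_contra hcon
      interval_cases c <;> omega
    by_cases hq2 : 2 ≤ q
    · have : q + 6 ≤ t := by nlinarith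
      nlinarith
    by_cases h16 : 16 ≤ t
    · nlinarith
    exfalso
    have hq1 : q ≠ 1 := fun h => by subst h; norm_num at hp
    obtain rfl : q = 0 := by omega
    have hr3 : r ≤ 3 := by
      by_contra h
      have h4 : 4 ^ 2 ≤ t :=
        (Nat.pow_le_pow_left (by omega : 4 ≤ r) 2).trans (Nat.pow_le_pow_right hr.pos hj)
      norm_num at h4
      omega
    have hj3 : j ≤ 3 := by
      by_contra h
      have h4 : 2 ^ 4 ≤ t :=
        (Nat.pow_le_pow_left hr.two_le 4).trans (Nat.pow_le_pow_right hr.pos (by omega))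
      norm_num at h4
      omega
    have := hr.two_le
    interval_cases r <;> interval_cases j <;> norm_num [ht] at hc h16 <;> omega
  refine Nat.le_of_mul_le_mul_left ?_ (by omega : 0 < q + 5)
  calc (q + 5) * (4 * O) = 4 * ((q + 5) * O) := by ring
    _ = F * (4 * t + 4 * (q + 4)) := by rw [hO]; ring
    _ ≤ F * (4 * t + (q + 1) * t) := Nat.mul_le_mul_left _ (by omega)
    _ = (q + 5) * (F * t) := by ring

end Cfsg.Agent.Lib.Flavell19.Arith
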