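/-
Counting fixed points of an element on an irreducible elementary abelian group, from the
dimension bound for the smaller group acting.
-/
import Mathlib.Algebra.Module.ZMod
import Mathlib.Algebra.Field.ZMod
import Mathlib.FieldTheory.Finiteness
import Mathlib.LinearAlgebra.FreeModule.Finite.Basic
import Mathlib.GroupTheory.Solvable
import Cfsg.Agent.Lib.FpfHeight.Extraspecial

set_option autoImplicit false

namespace Cfsg.Agent.Lib.Flavell19.ModuleCount

open Module Cfsg.Agent.Lib.FpfHeight.Extraspecial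

universe u

/-- The statement for groups of order less than `n` over prime fields. -/
def Small (p n : ℕ) : Prop :=
  ∀ (H : Type u) [Group H] [Finite H] [Group.IsSolvable H], Nat.card H < n →
    ∀ y : H, orderOf y = p → Subgroup.normalClosure {y} = ⊤ →
      ∀ (r : ℕ) [Fact r.Prime] (A : Type u) [AddCommGroup A] [Module (ZMod r) A] [Finite A]
        (σ : H →* Module.End (ZMod r) A), Nontrivial A → IsIrred σ → Function.Injective σ →
          2 * finrank (ZMod r) (LinearMap.ker (σ y - 1)) < finrank (ZMod r) A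

/-- Passing to the faithful quotient. -/
theorem quotient_data {G : Type u} [Group G] [Finite G] {p : ℕ} (hp : p.Prime)
    {k : Type*} [Field k] {V : Type*} [AddCommGroup V] [Module k V] (ρ : G →* Module.End k V)
    (x : G) (hx : orderOf x = p) (hgen : Subgroup.normalClosure {x} = ⊤) (hρx : ρ x ≠ 1) :
    ∃ (σ : G ⧸ ρ.ker →* Module.End k V) (y : G ⧸ ρ.ker), orderOf y = p ∧
      Subgroup.normalClosure {y} = ⊤ ∧ Function.Injective σ ∧ σ y = ρ x ∧
      ∀ g : G, σ (g : G ⧸ ρ.ker) = ρ g := by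
  refine ⟨QuotientGroup.lift ρ.ker ρ le_rfl, (x : G ⧸ ρ.ker), ?_, ?_, ?_, rfl, fun g => rfl⟩
  · haveI := Fact.mk hp
    refine orderOf_eq_prime ?_ ?_
    · rw [← QuotientGroup.mk_pow, ← hx, pow_orderOf_eq_one, QuotientGroup.mk_one]
    · intro h
      exact hρx (MonoidHom.mem_ker.mp ((QuotientGroup.eq_one_iff x).mp h))
  · rw [eq_top_iff]
    intro q _
    obtain ⟨g, rfl⟩ := QuotientGroup.mk_surjective q
    have hle : Subgroup.normalClosure {x} ≤
        (Subgroup.normalClosure {(x : G ⧸ ρ.ker)}).comap (QuotientGroup.mk' ρ.ker) :=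
      Subgroup.normalClosure_le_normal (Set.singleton_subset_iff.mpr
        (Subgroup.subset_normalClosure rfl))
    exact hle (hgen ▸ Subgroup.mem_top g)
  · intro a b h
    obtain ⟨a, rfl⟩ := QuotientGroup.mk_surjective a
    obtain ⟨b, rfl⟩ := QuotientGroup.mk_surjective b
    refine QuotientGroup.eq.mpr (MonoidHom.mem_ker.mpr ?_)
    have h' : ρ a = ρ b := h
    rw [map_mul, ← h', ← map_mul, inv_mul_cancel, map_one]

theorem counts_aux {G : Type u} [Group G] [Finite G] [Group.IsSolvable G] {p : ℕ} (hp : p.Prime)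
    (hsmall : Small.{u} p (Nat.card G)) (x : G) (hx : orderOf x = p)
    (hgen : Subgroup.normalClosure {x} = ⊤) (r : ℕ) [Fact r.Prime]
    {A : Type u} [AddCommGroup A] [Module (ZMod r) A] [Finite A] [Nontrivial A]
    (σ : G →* Module.End (ZMod r) A) (hirr : IsIrred σ)
    (hcyc : ∀ a : A, Submodule.span (ZMod r) {a} ≠ ⊤) (hker : ∃ c, c ≠ 1 ∧ σ c = 1) :
    ∃ d e : ℕ, Nat.card A = r ^ d ∧ Nat.card {a // σ x a = a} = r ^ e ∧ 2 * e < d ∧ 2 ≤ d := by
  haveI : Module.Finite (ZMod r) A := Module.Finite.of_finite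
  obtain ⟨a₀, ha₀⟩ := exists_ne (0 : A)
  have hσx : σ x ≠ 1 := by
    intro h
    have hker : σ.ker = ⊤ := top_unique (hgen ▸ Subgroup.normalClosure_le_normal
      (Set.singleton_subset_iff.mpr (MonoidHom.mem_ker.mpr h)))
    refine hcyc a₀ ((hirr _ fun g w hw => ?_).resolve_left fun h0 => ha₀ ?_)
    · rw [MonoidHom.mem_ker.mp (hker ▸ Subgroup.mem_top g : g ∈ σ.ker)]
      exact hw
    · exact (Submodule.mem_bot _).mp (h0 ▸ Submodule.mem_span_singleton_self _)
  obtain ⟨σ', y, hy, hygen, hinj, hσ'y, hσ'g⟩ := quotient_data hp σ x hx hgen hσx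
  obtain ⟨c, hc1, hc⟩ := hker
  have hlt : Nat.card (G ⧸ σ.ker) < Nat.card G := by
    have hne : σ.ker ≠ ⊥ := fun h => hc1 (by
      have hm : c ∈ σ.ker := MonoidHom.mem_ker.mpr hc
      rwa [h, Subgroup.mem_bot] at hm)
    rw [Subgroup.card_eq_card_quotient_mul_card_subgroup σ.ker]
    exact lt_mul_of_one_lt_right Nat.card_pos ((Subgroup.one_lt_card_iff_ne_bot _).mpr hne)
  haveI : Group.IsSolvable (G ⧸ σ.ker) :=
    inferInstance
  have hIH := hsmall (G ⧸ σ.ker) hlt y hy hygen r A σ' ‹_›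
    (fun W hW => hirr W fun g w hw => by rw [← hσ'g]; exact hW _ w hw) hinj
  rw [hσ'y] at hIH
  refine ⟨finrank (ZMod r) A, finrank (ZMod r) (LinearMap.ker (σ x - 1)), ?_, ?_, hIH, ?_⟩
  · rw [Module.natCard_eq_pow_finrank (K := ZMod r) (V := A), Nat.card_zmod]
  · have h := Module.natCard_eq_pow_finrank (K := ZMod r) (V := LinearMap.ker (σ x - 1))
    rw [Nat.card_zmod] at h
    rw [← h]
    exact Nat.card_congr (Equiv.subtypeEquivRight fun a => by simp [sub_eq_zero])
  · by_contra h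
    have : 0 < finrank (ZMod r) A := Module.finrank_pos
    exact hcyc a₀ ((finrank_eq_one_iff_of_nonzero _ ha₀).mp (by omega))

theorem counts_zmod {G : Type u} [Group G] [Finite G] [Group.IsSolvable G] {p : ℕ} (hp : p.Prime)
    (hsmall : Small.{u} p (Nat.card G)) (x : G) (hx : orderOf x = p)
    (hgen : Subgroup.normalClosure {x} = ⊤) (r : ℕ) [Fact r.Prime]
    {Q : Type u} [CommGroup Q] [Finite Q] [Nontrivial Q] [Module (ZMod r) (Additive Q)]
    (φ : G →* MulAut Q)
    (hirr : ∀ T : Subgroup Q, (∀ g, ∀ q ∈ T, φ g q ∈ T) → T = ⊥ ∨ T = ⊤)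
    (hcyc : ∀ q : Q, ∃ b : Q, ∀ m : ℕ, q ^ m ≠ b) (hker : ∃ c, c ≠ 1 ∧ φ c = 1) :
    ∃ d e : ℕ, Nat.card Q = r ^ d ∧ Nat.card {q // φ x q = q} = r ^ e ∧ 2 * e < d ∧ 2 ≤ d := by
  let σ : G →* Module.End (ZMod r) (Additive Q) :=
    { toFun := fun g => AddMonoidHom.toZModLinearMap r (MonoidHom.toAdditive (φ g).toMonoidHom)
      map_one' := LinearMap.ext fun q => by
        change Additive.ofMul (φ 1 q.toMul) = q
        rw [map_one]; rfl
      map_mul' := fun g h => LinearMap.ext fun q => by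
        change Additive.ofMul (φ (g * h) q.toMul) = Additive.ofMul (φ g (φ h q.toMul))
        rw [map_mul]; rfl }
  have hirr' : IsIrred σ := by
    intro W hW
    rcases hirr (AddSubgroup.toSubgroup' W.toAddSubgroup) (fun g q hq => hW g _ hq) with h | h
    · left
      rw [Submodule.eq_bot_iff]
      intro w hw
      have hm : w.toMul ∈ AddSubgroup.toSubgroup' W.toAddSubgroup := hw
      rw [h, Subgroup.mem_bot] at hm
      exact hm
    · right
      rw [eq_top_iff]
      intro w _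
      have hm : w.toMul ∈ AddSubgroup.toSubgroup' W.toAddSubgroup := h ▸ Subgroup.mem_top _
      exact hm
  obtain ⟨d, e, hd, he, hlt, h2⟩ := counts_aux hp hsmall x hx hgen r σ hirr'
    (fun a htop => by
      obtain ⟨b, hb⟩ := hcyc a.toMul
      have hm : Additive.ofMul b ∈ Submodule.span (ZMod r) {a} := htop ▸ Submodule.mem_top
      obtain ⟨m, hm⟩ := Submodule.mem_span_singleton.mp hm
      rw [← ZMod.natCast_zmod_val m, Nat.cast_smul_eq_nsmul] at hm
      exact hb m.val (congrArg Additive.toMul hm))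
    (hker.imp fun c hc => ⟨hc.1, LinearMap.ext fun q => by
      change Additive.ofMul (φ c q.toMul) = q
      rw [hc.2]; rfl⟩)
  refine ⟨d, e, ?_, ?_, hlt, h2⟩
  · rw [← hd]; exact Nat.card_congr Additive.ofMul
  · rw [← he]
    exact Nat.card_congr (Additive.ofMul.subtypeEquiv fun q => Iff.rfl)

/-- The counts, for an irreducible action by automorphisms on a group of exponent `r`. -/
theorem counts {G : Type u} [Group G] [Finite G] [Group.IsSolvable G] {p : ℕ} (hp : p.Prime)
    (hsmall : Small.{u} p (Nat.card G)) (x : G) (hx : orderOf x = p)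
    (hgen : Subgroup.normalClosure {x} = ⊤) (r : ℕ) [Fact r.Prime]
    {Q : Type u} [CommGroup Q] [Finite Q] [Nontrivial Q] (hexp : ∀ q : Q, q ^ r = 1)
    (φ : G →* MulAut Q)
    (hirr : ∀ T : Subgroup Q, (∀ g, ∀ q ∈ T, φ g q ∈ T) → T = ⊥ ∨ T = ⊤)
    (hcyc : ∀ q : Q, ∃ b : Q, ∀ m : ℕ, q ^ m ≠ b) (hker : ∃ c, c ≠ 1 ∧ φ c = 1) :
    ∃ d e : ℕ, Nat.card Q = r ^ d ∧ Nat.card {q // φ x q = q} = r ^ e ∧ 2 * e < d ∧ 2 ≤ d := by
  letI : Module (ZMod r) (Additive Q) :=
    AddCommGroup.zmodModule fun a => congrArg Additive.ofMul (hexp a.toMul)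
  exact counts_zmod hp hsmall x hx hgen r φ hirr hcyc hker

end Cfsg.Agent.Lib.Flavell19.ModuleCount
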