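/-
A normal abelian subgroup acting non-scalarly: the fixed space of an element of prime order
`p > 3` generating the group as a normal subgroup has less than half the dimension.
-/
import Mathlib.LinearAlgebra.Eigenspace.Triangularizable
import Mathlib.LinearAlgebra.DirectSum.Finite
import Mathlib.LinearAlgebra.LinearIndependent.Lemmas
import Mathlib.Algebra.DirectSum.Module
import Cfsg.Agent.Lib.FpfHeight.Extraspecial
import Cfsg.Agent.Lib.Flavell19.Perm

set_option autoImplicit false

namespace Cfsg.Agent.Lib.Flavell19.Weights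

open Module Cfsg.Agent.Lib.FpfHeight.Extraspecial

variable {G : Type*} [Group G] {k : Type*} [Field k] {V : Type*} [AddCommGroup V] [Module k V]

/-- Elements commuting with an irreducible image act as scalars. -/
theorem exists_scalar [IsAlgClosed k] [FiniteDimensional k V] [Nontrivial V]
    {ρ : G →* Module.End k V} (hirr : IsIrred ρ) (f : Module.End k V)
    (hf : ∀ g v, f (ρ g v) = ρ g (f v)) : ∃ t : k, f = t • 1 := by
  obtain ⟨t, ht⟩ := Module.End.exists_eigenvalue f
  refine ⟨t, ?_⟩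
  rcases hirr (Module.End.eigenspace f t) (fun g w hw => by
    rw [Module.End.mem_eigenspace_iff] at hw ⊢
    rw [hf, hw, map_smul]) with h | h
  · exact absurd h (Module.End.hasEigenvalue_iff.mp ht)
  · refine LinearMap.ext fun v => ?_
    have hv : v ∈ Module.End.eigenspace f t := h ▸ Submodule.mem_top
    simpa [Module.End.mem_eigenspace_iff] using hv

variable (ρ : G →* Module.End k V) (A : Subgroup G)

/-- Weight spaces. -/
def E (χ : A →* k) : Submodule k V := ⨅ a : A, LinearMap.ker (ρ a - χ a • 1)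

theorem mem_E {χ : A →* k} {v : V} : v ∈ E ρ A χ ↔ ∀ a : A, ρ a v = χ a • v := by
  simp [E, sub_eq_zero]

theorem exists_weight [IsAlgClosed k] [FiniteDimensional k V] [Nontrivial V]
    (hA : ∀ a ∈ A, ∀ b ∈ A, a * b = b * a) : ∃ χ : A →* k, E ρ A χ ≠ ⊥ := by
  obtain ⟨U, ⟨hUinv, hUne⟩, hUmin⟩ := exists_minimal_of_wellFoundedLT
    (fun W : Submodule k V => (∀ a : A, ∀ w ∈ W, ρ a w ∈ W) ∧ W ≠ ⊥)
    ⟨⊤, fun _ _ _ => Submodule.mem_top, top_ne_bot⟩
  have hsc : ∀ a : A, ∃ t : k, ∀ u ∈ U, ρ a u = t • u := by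
    intro a
    haveI : Nontrivial U := Submodule.nontrivial_iff_ne_bot.mpr hUne
    obtain ⟨t, ht⟩ := Module.End.exists_eigenvalue ((ρ a).restrict (hUinv a))
    obtain ⟨u, hu⟩ := ht.exists_hasEigenvector
    refine ⟨t, fun v hv => ?_⟩
    have hle : U ≤ U ⊓ Module.End.eigenspace (ρ a) t := by
      refine hUmin ⟨fun b w hw => ⟨hUinv b w hw.1, ?_⟩, ?_⟩ inf_le_left
      · have h2 : ρ a w = t • w := Module.End.mem_eigenspace_iff.mp hw.2
        rw [SetLike.mem_coe, Module.End.mem_eigenspace_iff, ← Module.End.mul_apply, ← map_mul,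
          hA a a.2 b b.2, map_mul, Module.End.mul_apply, h2, map_smul]
      · intro h0
        have hmem : (u : V) ∈ U ⊓ Module.End.eigenspace (ρ a) t := ⟨u.2, by
          rw [SetLike.mem_coe, Module.End.mem_eigenspace_iff]
          exact congrArg Subtype.val (Module.End.mem_eigenspace_iff.mp hu.1)⟩
        rw [h0, Submodule.mem_bot] at hmem
        exact hu.2 (Subtype.ext hmem)
    exact Module.End.mem_eigenspace_iff.mp (hle hv).2
  choose t ht using hsc
  obtain ⟨u, hu, hu0⟩ := Submodule.exists_mem_ne_zero_of_ne_bot hUne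
  have hinj : ∀ s s' : k, s • u = s' • u → s = s' := fun s s' h => smul_left_injective k hu0 h
  let χ : A →* k :=
    { toFun := t
      map_one' := hinj _ _ (by rw [← ht 1 u hu, one_smul]; simp)
      map_mul' := fun a b => hinj _ _ (by
        rw [← ht (a * b) u hu, Subgroup.coe_mul, map_mul, Module.End.mul_apply, ht b u hu, map_smul,
          ht a u hu, smul_smul, mul_comm]) }
  exact ⟨χ, Submodule.ne_bot_iff _ |>.mpr ⟨u, (mem_E ρ A).mpr fun a => ht a u hu, hu0⟩⟩

theorem disjoint_E (s : Finset (A →* k)) :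
    ∀ χ ∉ s, Disjoint (E ρ A χ) (⨆ ψ ∈ s, E ρ A ψ) := by
  classical
  induction s using Finset.induction_on with
  | empty => intro χ _; simp
  | insert ψ s hψ ih =>
    intro χ hχ
    rw [Finset.mem_insert, not_or] at hχ
    rw [Finset.iSup_insert, Submodule.disjoint_def]
    intro v hv hv'
    obtain ⟨w, hw, u, hu, rfl⟩ := Submodule.mem_sup.mp hv'
    obtain ⟨a, ha⟩ : ∃ a, χ a ≠ ψ a := by
      by_contra h
      push_neg at h
      exact hχ.1 (MonoidHom.ext h)
    have hinv : ∀ z ∈ ⨆ η ∈ s, E ρ A η, (ρ a - ψ a • 1 : Module.End k V) z ∈ ⨆ η ∈ s, E ρ A η := by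
      intro z hz
      have hle : (⨆ η ∈ s, E ρ A η) ≤
          (⨆ η ∈ s, E ρ A η).comap (ρ a - ψ a • 1 : Module.End k V) := by
        refine iSup₂_le fun η hη z hz => ?_
        rw [Submodule.mem_comap, LinearMap.sub_apply, (mem_E ρ A).mp hz a, LinearMap.smul_apply,
          Module.End.one_apply, ← sub_smul]
        exact Submodule.smul_mem _ _ (le_iSup₂ (f := fun η (_ : η ∈ s) => E ρ A η) η hη hz)
      exact hle hz
    have h1 : (χ a - ψ a) • (w + u) = (ρ a - ψ a • 1 : Module.End k V) u := by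
      rw [sub_smul, ← (mem_E ρ A).mp hv a, map_add, (mem_E ρ A).mp hw a]
      simp [smul_add]
    have h2 : (χ a - ψ a) • (w + u) = 0 := Submodule.disjoint_def.mp (ih χ hχ.2) _
      (Submodule.smul_mem _ _ hv) (h1 ▸ hinv u hu)
    exact (smul_eq_zero.mp h2).resolve_left (sub_ne_zero.mpr ha)

variable [A.Normal]

/-- The translate of a weight. -/
def tw (g : G) (χ : A →* k) : A →* k where
  toFun a := χ ⟨g⁻¹ * a * g, by simpa using ‹A.Normal›.conj_mem a a.2 g⁻¹⟩
  map_one' := by
    conv_rhs => rw [← map_one χ]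
    exact congrArg χ (Subtype.ext (by simp))
  map_mul' a b := by
    rw [← map_mul]
    exact congrArg χ (Subtype.ext (by simp [mul_assoc]))

theorem tw_one (χ : A →* k) : tw A 1 χ = χ :=
  MonoidHom.ext fun a => congrArg χ (Subtype.ext (by simp))

theorem tw_mul (g h : G) (χ : A →* k) : tw A (g * h) χ = tw A g (tw A h χ) :=
  MonoidHom.ext fun a => congrArg χ (Subtype.ext (by simp [mul_assoc]))

theorem map_mem_E (g : G) {χ : A →* k} {v : V} (hv : v ∈ E ρ A χ) :
    ρ g v ∈ E ρ A (tw A g χ) := by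
  rw [mem_E] at hv ⊢
  intro a
  have h : (a : G) * g = g * (g⁻¹ * a * g) := by simp [mul_assoc]
  rw [← Module.End.mul_apply, ← map_mul, h, map_mul, Module.End.mul_apply]
  change _ = χ ⟨g⁻¹ * a * g, _⟩ • _
  rw [← map_smul, ← hv ⟨g⁻¹ * a * g, by simpa using ‹A.Normal›.conj_mem a a.2 g⁻¹⟩]

theorem rho_injective (g : G) : Function.Injective (ρ g) := fun v w h => by
  have h' := congrArg (ρ g⁻¹) h
  rwa [← Module.End.mul_apply, ← Module.End.mul_apply, ← map_mul, inv_mul_cancel, map_one] at h'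

theorem tw_ne_bot (g : G) {χ : A →* k} (h : E ρ A χ ≠ ⊥) : E ρ A (tw A g χ) ≠ ⊥ := by
  obtain ⟨v, hv, hv0⟩ := Submodule.exists_mem_ne_zero_of_ne_bot h
  exact Submodule.ne_bot_iff _ |>.mpr ⟨_, map_mem_E ρ A g hv,
    fun h0 => hv0 (rho_injective ρ g (h0.trans (map_zero _).symm))⟩

/-- The non-scalar case. -/
theorem fixed_lt_half [Finite G] [Group.IsSolvable G] [IsAlgClosed k] [FiniteDimensional k V]
    [Nontrivial V] (hA : ∀ a ∈ A, ∀ b ∈ A, a * b = b * a) (hirr : IsIrred ρ)
    (hns : ¬ ∀ a ∈ A, ∃ t : k, ρ a = t • 1) {p : ℕ} (hp : p.Prime) (hp3 : 3 < p) (x : G)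
    (hx : orderOf x = p) (hgen : Subgroup.normalClosure {x} = ⊤) :
    2 * finrank k (LinearMap.ker (ρ x - 1)) < finrank k V := by
  classical
  haveI : Finite (A →* k) := (linearIndependent_monoidHom A k).finite
  haveI : Fintype (A →* k) := Fintype.ofFinite _
  set Λ := {χ : A →* k // E ρ A χ ≠ ⊥}
  haveI : Fintype Λ := Fintype.ofFinite _
  letI : MulAction G Λ :=
    { smul := fun g χ => ⟨tw A g χ.1, tw_ne_bot ρ A g χ.2⟩
      one_smul := fun χ => Subtype.ext (tw_one A χ.1)
      mul_smul := fun g h χ => Subtype.ext (tw_mul A g h χ.1) }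
  let F : Λ → Submodule k V := fun χ => E ρ A χ.1
  have hmap : ∀ g (χ : Λ) v, v ∈ F χ → ρ g v ∈ F (g • χ) := fun g χ v hv => map_mem_E ρ A g hv
  have hindep : iSupIndep F := fun χ =>
    (disjoint_E ρ A (Finset.univ.erase χ.1) χ.1 (Finset.notMem_erase _ _)).mono_right
      (iSup₂_le fun ψ hψ => le_iSup₂ (f := fun η (_ : η ∈ Finset.univ.erase χ.1) => E ρ A η) ψ.1
        (Finset.mem_erase.mpr ⟨fun h => hψ (Subtype.ext h), Finset.mem_univ _⟩))
  obtain ⟨χ₀', hχ₀'⟩ := exists_weight ρ A hA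
  let χ₀ : Λ := ⟨χ₀', hχ₀'⟩
  let Uo : Submodule k V := ⨆ g : G, F (g • χ₀)
  have hUo : Uo = ⊤ := by
    refine (hirr Uo fun h w hw => ?_).resolve_left fun h0 => hχ₀' (by
      have h1 : F ((1 : G) • χ₀) ≤ Uo := le_iSup (fun g => F (g • χ₀)) 1
      rw [one_smul, h0, le_bot_iff] at h1
      exact h1)
    have hle : Uo ≤ Uo.comap (ρ h) := iSup_le fun g v hv => by
      have := hmap h _ v hv
      rw [← mul_smul] at this
      exact le_iSup (fun g => F (g • χ₀)) (h * g) this
    exact hle hw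
  have htrans : ∀ χ : Λ, ∃ g : G, g • χ₀ = χ := by
    intro χ
    by_contra h
    push_neg at h
    have hle : F χ ≤ ⨆ (ψ) (_ : ψ ≠ χ), F ψ := le_top.trans (hUo.symm.le.trans
      (iSup_le fun g => le_iSup₂ (f := fun ψ (_ : ψ ≠ χ) => F ψ) (g • χ₀) (h g)))
    exact χ.2 (disjoint_self.mp ((hindep χ).mono_right hle))
  have htop : ⨆ χ, F χ = ⊤ := top_unique (hUo ▸ iSup_le fun g => le_iSup F (g • χ₀))
  have hdim : ∀ χ : Λ, finrank k (F χ) = finrank k (F χ₀) := by
    intro χ
    obtain ⟨g, rfl⟩ := htrans χ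
    refine le_antisymm ?_ ?_
    · refine LinearMap.finrank_le_finrank_of_injective
        (f := (ρ g⁻¹).restrict (p := F (g • χ₀)) (q := F χ₀) fun v hv => by
          have := hmap g⁻¹ _ v hv
          rwa [inv_smul_smul] at this) ?_
      exact fun v w h => Subtype.ext (rho_injective ρ g⁻¹ (congrArg Subtype.val h))
    · exact LinearMap.finrank_le_finrank_of_injective
        (f := (ρ g).restrict (p := F χ₀) (q := F (g • χ₀)) fun v hv => hmap g _ v hv)
        fun v w h => Subtype.ext (rho_injective ρ g (congrArg Subtype.val h))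
  have hint : DirectSum.IsInternal F :=
    DirectSum.isInternal_submodule_of_iSupIndep_of_iSup_eq_top hindep htop
  let e0 := LinearEquiv.ofBijective (DirectSum.coeLinearMap F) hint
  have hV : finrank k V = Fintype.card Λ * finrank k (F χ₀) := by
    rw [← e0.finrank_eq, Module.finrank_directSum, Finset.sum_congr rfl fun χ _ => hdim χ,
      Finset.sum_const, Finset.card_univ, smul_eq_mul]
  let π : (χ : Λ) → V →ₗ[k] F χ := fun χ =>
    (DirectSum.component k Λ (fun ψ => F ψ) χ).comp e0.symm.toLinearMap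
  have hπ : ∀ (ψ : Λ) (u : F ψ) (χ : Λ),
      ((π χ (u : V) : F χ) : V) = if ψ = χ then (u : V) else 0 := by
    intro ψ u χ
    have h1 : e0.symm (u : V) = DirectSum.lof k Λ (fun χ => F χ) ψ u := by
      rw [LinearEquiv.symm_apply_eq]
      exact (DirectSum.coeLinearMap_of F ψ u).symm
    simp only [π, LinearMap.comp_apply, LinearEquiv.coe_coe, h1, DirectSum.component.of]
    split_ifs with h
    · subst h; rfl
    · rfl
  have hcomm : ∀ (χ : Λ) v, ((π (x • χ) (ρ x v) : F (x • χ)) : V) = ρ x (π χ v : F χ) := by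
    intro χ
    have hle : (⊤ : Submodule k V) ≤ LinearMap.ker
        ((F (x • χ)).subtype.comp ((π (x • χ)).comp (ρ x)) -
          (ρ x).comp ((F χ).subtype.comp (π χ))) := by
      rw [← htop]
      refine iSup_le fun ψ v hv => ?_
      rw [LinearMap.mem_ker, LinearMap.sub_apply, sub_eq_zero]
      simp only [LinearMap.comp_apply, Submodule.coe_subtype]
      rw [hπ (x • ψ) ⟨ρ x v, hmap x ψ v hv⟩, hπ ψ ⟨v, hv⟩]
      by_cases h : ψ = χ
      · simp [h]
      · simp [h]
    exact fun v => sub_eq_zero.mp (LinearMap.mem_ker.mp (hle (Submodule.mem_top (x := v))))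
  obtain ⟨S, hS, hScard⟩ := Perm.exists_orbit_reps (MulAction.toPerm x : Equiv.Perm Λ) hp (by
    have h : MulAction.toPermHom G Λ (x ^ p) = 1 := by rw [← hx, pow_orderOf_eq_one, map_one]
    rwa [map_pow] at h)
  let J : LinearMap.ker (ρ x - 1) →ₗ[k] ((χ : S) → F χ.1) :=
    (LinearMap.pi fun χ : S => π χ.1).comp (LinearMap.ker (ρ x - 1)).subtype
  have hJ : Function.Injective J := by
    refine (injective_iff_map_eq_zero J).mpr fun v hv => ?_
    have hfix : ρ x (v : V) = v := by
      have h := v.2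
      rwa [LinearMap.mem_ker, LinearMap.sub_apply, Module.End.one_apply, sub_eq_zero] at h
    have hback : ∀ χ : Λ, π (x • χ) (v : V) = 0 → π χ (v : V) = 0 := by
      intro χ h
      have h1 := hcomm χ v
      rw [hfix, h] at h1
      exact Subtype.ext (rho_injective ρ x (h1.symm.trans (map_zero _).symm))
    have hall : ∀ (i : ℕ) (χ : Λ),
        ((MulAction.toPerm x : Equiv.Perm Λ) ^ i) χ ∈ S → π χ (v : V) = 0 := by
      intro i
      induction i with
      | zero => exact fun χ h => congrFun hv ⟨χ, h⟩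
      | succ i ih =>
        intro χ h
        rw [pow_succ, Equiv.Perm.mul_apply] at h
        exact hback χ (ih _ h)
    have h0 : e0.symm (v : V) = 0 := DirectSum.ext fun χ => by
      obtain ⟨i, hi⟩ := hS χ
      exact hall i χ hi
    exact Subtype.ext (e0.symm.map_eq_zero_iff.mp h0)
  have hc : finrank k (LinearMap.ker (ρ x - 1)) ≤ S.card * finrank k (F χ₀) := by
    refine (LinearMap.finrank_le_finrank_of_injective hJ).trans (le_of_eq ?_)
    rw [Module.finrank_pi_fintype, Finset.sum_congr rfl fun χ _ => hdim χ.1, Finset.sum_const,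
      Finset.card_univ, Fintype.card_coe, smul_eq_mul]
  have hMne : MulAction.stabilizer G χ₀ ≠ ⊤ := by
    intro h
    refine hns fun a ha => ⟨χ₀.1 ⟨a, ha⟩, LinearMap.ext fun v => ?_⟩
    have hle : F χ₀ = ⊤ := top_unique (hUo ▸ iSup_le fun g => by
      rw [show g • χ₀ = χ₀ from h.symm.le (Subgroup.mem_top g)])
    have hv : v ∈ F χ₀ := hle ▸ Submodule.mem_top
    exact (mem_E ρ A).mp hv ⟨a, ha⟩
  have h3 := Perm.coset_fixed_third hp (by omega : p ≠ 2) _ _ rfl hMne x hx hgen
  have hbij : Function.Bijective (MulAction.ofQuotientStabilizer G χ₀) :=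
    ⟨MulAction.injective_ofQuotientStabilizer G χ₀, fun χ => by
      obtain ⟨g, hg⟩ := htrans χ
      exact ⟨(g : G ⧸ MulAction.stabilizer G χ₀), hg⟩⟩
  have hidx : (MulAction.stabilizer G χ₀).index = Nat.card Λ := Nat.card_eq_of_bijective _ hbij
  have hfixeq : Nat.card {c : G ⧸ MulAction.stabilizer G χ₀ // x • c = c} =
      Nat.card {χ : Λ // (MulAction.toPerm x : Equiv.Perm Λ) χ = χ} := by
    refine Nat.card_congr ((Equiv.ofBijective _ hbij).subtypeEquiv fun c => ?_)
    rw [Equiv.ofBijective_apply, MulAction.toPerm_apply, ← MulAction.ofQuotientStabilizer_smul]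
    exact hbij.1.eq_iff.symm
  rw [hfixeq, hidx] at h3
  rw [Nat.card_eq_fintype_card (α := Λ)] at h3 hScard
  generalize Nat.card {χ : Λ // (MulAction.toPerm x : Equiv.Perm Λ) χ = χ} = f at h3 hScard
  have hN : 0 < Fintype.card Λ := Fintype.card_pos_iff.mpr ⟨χ₀⟩
  have hd : 0 < finrank k (F χ₀) := by
    haveI : Nontrivial (F χ₀) := Submodule.nontrivial_iff_ne_bot.mpr χ₀.2
    exact Module.finrank_pos
  have h2S : 2 * S.card < Fintype.card Λ := by
    obtain ⟨q, rfl⟩ : ∃ q, p = q + 5 := ⟨p - 5, by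
      have : p ≠ 4 := fun h => absurd (h ▸ hp) (by decide)
      omega⟩
    rw [show q + 5 - 1 = q + 4 from rfl] at hScard
    by_contra hcon
    push_neg at hcon
    nlinarith [Nat.mul_le_mul_left (q + 4) h3, Nat.mul_le_mul_left (3 * (q + 5)) hcon,
      Nat.zero_le (q * Fintype.card Λ)]
  rw [hV]
  calc 2 * finrank k (LinearMap.ker (ρ x - 1)) ≤ 2 * (S.card * finrank k (F χ₀)) :=
        Nat.mul_le_mul_left _ hc
    _ = (2 * S.card) * finrank k (F χ₀) := (mul_assoc _ _ _).symm
    _ < Fintype.card Λ * finrank k (F χ₀) := (Nat.mul_lt_mul_right hd).mpr h2S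

end Cfsg.Agent.Lib.Flavell19.Weights
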