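/-
Over an algebraically closed field: an element of prime order `p > 3` generating a solvable group
as a normal subgroup fixes less than half of a faithful irreducible module, given the statement
for smaller groups over prime fields.
-/
import Mathlib.Algebra.CharP.Lemmas
import Mathlib.FieldTheory.Finiteness
import Mathlib.LinearAlgebra.FreeModule.Finite.Basic
import Mathlib.GroupTheory.Perm.Cycle.Type
import Cfsg.Agent.Lib.Flavell19.Weights
import Cfsg.Agent.Lib.Flavell19.Symplectic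
import Cfsg.Agent.Lib.Flavell19.Arith
import Cfsg.Agent.Lib.Flavell19.ModuleCount

set_option autoImplicit false

namespace Cfsg.Agent.Lib.Flavell19.Body

open Module Cfsg.Agent.Lib.FpfHeight.Extraspecial
open scoped commutatorElement

universe u

theorem body {G : Type u} [Group G] [Finite G] [Group.IsSolvable G] {p : ℕ} (hp : p.Prime)
    (hp3 : 3 < p) (hsmall : ModuleCount.Small.{u} p (Nat.card G)) (x : G) (hx : orderOf x = p)
    (hgen : Subgroup.normalClosure {x} = ⊤)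
    {k : Type*} [Field k] [IsAlgClosed k] (ℓ : ℕ) [Fact ℓ.Prime] [CharP k ℓ]
    {V : Type*} [AddCommGroup V] [Module k V] [FiniteDimensional k V] [Nontrivial V]
    (ρ : G →* Module.End k V) (hirr : IsIrred ρ) (hf : Function.Injective ρ) :
    2 * finrank k (LinearMap.ker (ρ x - 1)) < finrank k V := by
  classical
  by_cases hsc : ∀ A : Subgroup G, A.Normal → (∀ a ∈ A, ∀ b ∈ A, a * b = b * a) →
      ∀ a ∈ A, ∃ t : k, ρ a = t • 1
  swap
  · push_neg at hsc
    obtain ⟨A, hAn, hA, a, ha, hns⟩ := hsc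
    haveI := hAn
    exact Weights.fixed_lt_half ρ A hA hirr (fun h => (h a ha).elim hns) hp hp3 x hx hgen
  have hcen : ∀ A : Subgroup G, A.Normal → (∀ a ∈ A, ∀ b ∈ A, a * b = b * a) →
      A ≤ Subgroup.center G := by
    intro A hAn hA a ha
    obtain ⟨t, ht⟩ := hsc A hAn hA a ha
    rw [Subgroup.mem_center_iff]
    intro g
    refine hf ?_
    rw [map_mul, map_mul, ht, mul_smul_comm, smul_mul_assoc, one_mul, mul_one]
  set Z := Subgroup.center G with hZdef
  have hzc : ∀ z ∈ Z, ∀ g : G, g * z = z * g := fun z hz g => Subgroup.mem_center_iff.mp hz g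
  have hZs : ∀ z ∈ Z, ∃ t : k, ρ z = t • 1 := fun z hz => by
    refine Weights.exists_scalar hirr (ρ z) fun g v => ?_
    rw [← Module.End.mul_apply, ← map_mul, ← hzc z hz g, map_mul, Module.End.mul_apply]
  obtain ⟨v₀, hv₀⟩ := exists_ne (0 : V)
  have huniq : ∀ s t : k, s • (1 : Module.End k V) = t • 1 → s = t := fun s t h =>
    smul_left_injective k hv₀ (LinearMap.congr_fun h v₀)
  have hx1 : x ≠ 1 := fun h => by rw [h, orderOf_one] at hx; exact hp.ne_one hx.symm
  by_cases hZtop : Z = ⊤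
  · obtain ⟨t, ht⟩ := hZs x (hZtop ▸ Subgroup.mem_top x)
    have ht1 : t ≠ 1 := fun h => hx1 (hf (by rw [ht, h, one_smul, map_one]))
    have hker : LinearMap.ker (ρ x - 1) = ⊥ := by
      rw [LinearMap.ker_eq_bot', ht]
      intro v hv
      rw [LinearMap.sub_apply, LinearMap.smul_apply, Module.End.one_apply] at hv
      nth_rw 2 [← one_smul k v] at hv
      rw [← sub_smul, smul_eq_zero] at hv
      exact hv.resolve_left (sub_ne_zero.mpr ht1)
    rw [hker, finrank_bot, mul_zero]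
    exact Module.finrank_pos
  -- a minimal normal subgroup above the centre
  obtain ⟨R, ⟨hRn, hZR⟩, hmin⟩ := exists_minimal_of_wellFoundedLT
    (fun R : Subgroup G => R.Normal ∧ Z < R) ⟨⊤, inferInstance, lt_top_iff_ne_top.mpr hZtop⟩
  haveI := hRn
  have hnab : ¬ ∀ a ∈ R, ∀ b ∈ R, a * b = b * a := fun h => hZR.not_ge (hcen R hRn h)
  have hRR : ⁅R, R⁆ ≤ Z := by
    by_contra hC
    have h1 : R ≤ Z ⊔ ⁅R, R⁆ := hmin ⟨inferInstance, lt_of_le_of_ne le_sup_left
      fun h => hC (h ▸ le_sup_right)⟩ (sup_le hZR.le (Subgroup.commutator_le_self R))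
    have h2 : ⁅R, R⁆ ≤ ⁅(⁅R, R⁆ : Subgroup G), ⁅R, R⁆⁆ := by
      refine Subgroup.commutator_le.mpr fun a ha b hb => ?_
      have ha' := h1 ha
      have hb' := h1 hb
      rw [← SetLike.mem_coe, Subgroup.normal_mul] at ha' hb'
      obtain ⟨z, hz, c, hc, rfl⟩ := Set.mem_mul.mp ha'
      obtain ⟨z', hz', c', hc', rfl⟩ := Set.mem_mul.mp hb'
      have hl : ∀ w ∈ Z, ∀ a b : G, ⁅w * a, b⁆ = ⁅a, b⁆ := fun w hw a b => by
        simp only [commutatorElement_def]
        calc w * a * b * (w * a)⁻¹ * b⁻¹ = w * (a * b * a⁻¹) * w⁻¹ * b⁻¹ := by group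
          _ = a * b * a⁻¹ * b⁻¹ := by rw [← hzc w hw (a * b * a⁻¹), mul_inv_cancel_right]
      have e : ⁅z * c, z' * c'⁆ = ⁅c, c'⁆ := by
        rw [hl z hz, ← commutatorElement_inv, hl z' hz', commutatorElement_inv]
      rw [e]
      exact Subgroup.commutator_mem_commutator hc hc'
    by_cases hb : ⁅R, R⁆ = ⊥
    · exact hC (hb.le.trans bot_le)
    · exact (Group.IsSolvable.commutator_lt_of_ne_bot hb).not_ge h2
  set Zs : Subgroup R := Z.subgroupOf R with hZsdef
  haveI : Zs.Normal := inferInstance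
  have hcomR : ∀ u y : R, u * y * u⁻¹ * y⁻¹ ∈ Zs := fun u y => by
    rw [hZsdef, Subgroup.mem_subgroupOf]
    exact hRR (by simpa [commutatorElement_def] using
      Subgroup.commutator_mem_commutator u.2 y.2)
  letI : CommGroup (R ⧸ Zs) :=
    { (inferInstance : Group (R ⧸ Zs)) with
      mul_comm := by
        rintro ⟨a⟩ ⟨b⟩
        refine QuotientGroup.eq.mpr ?_
        have h := hcomR b⁻¹ a⁻¹
        simpa [mul_assoc] using h }
  obtain ⟨a₀, ha₀R, ha₀Z⟩ := Set.exists_of_ssubset (SetLike.coe_ssubset_coe.mpr hZR)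
  have hcard1 : Nat.card (R ⧸ Zs) ≠ 1 := by
    intro h
    haveI := (Nat.card_eq_one_iff_unique.mp h).1
    exact ha₀Z (Subgroup.mem_subgroupOf.mp
      ((QuotientGroup.eq_one_iff (⟨a₀, ha₀R⟩ : R)).mp (Subsingleton.elim _ _)))
  obtain ⟨r, hrp, hrdvd⟩ := Nat.exists_prime_and_dvd hcard1
  haveI := Fact.mk hrp
  have hexp : ∀ q : R ⧸ Zs, q ^ r = 1 := by
    have hpow : ∀ a : R, (a : G) ^ r ∈ Z ↔ (a : R ⧸ Zs) ^ r = 1 := fun a => by
      rw [← QuotientGroup.mk_pow, QuotientGroup.eq_one_iff, hZsdef, Subgroup.mem_subgroupOf,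
        SubmonoidClass.coe_pow]
    let T : Subgroup G :=
      { carrier := {a | a ∈ R ∧ a ^ r ∈ Z}
        one_mem' := ⟨R.one_mem, by simp⟩
        mul_mem' := fun {a b} ha hb => ⟨R.mul_mem ha.1 hb.1, by
          have h1 := (hpow ⟨a, ha.1⟩).mp ha.2
          have h2 := (hpow ⟨b, hb.1⟩).mp hb.2
          have h3 : ((⟨a, ha.1⟩ * ⟨b, hb.1⟩ : R) : R ⧸ Zs) ^ r = 1 := by
            rw [QuotientGroup.mk_mul, mul_pow, h1, h2, one_mul]
          exact (hpow _).mpr h3⟩
        inv_mem' := fun {a} ha => ⟨R.inv_mem ha.1, by rw [inv_pow]; exact Z.inv_mem ha.2⟩ }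
    have hTn : T.Normal := ⟨fun a ha g => ⟨hRn.conj_mem a ha.1 g, by
      rw [conj_pow]
      exact Subgroup.Normal.conj_mem inferInstance _ ha.2 g⟩⟩
    have hZT : Z < T := by
      refine lt_of_le_of_ne (fun z hz => ⟨hZR.le hz, Z.pow_mem hz r⟩) fun h => ?_
      obtain ⟨q, hq⟩ := exists_prime_orderOf_dvd_card' r hrdvd
      obtain ⟨a, rfl⟩ := QuotientGroup.mk_surjective q
      have haT : (a : G) ∈ T :=
        ⟨a.2, (hpow a).mpr (by conv_lhs => rw [← hq, pow_orderOf_eq_one])⟩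
      rw [← h] at haT
      rw [(QuotientGroup.eq_one_iff a).mpr (Subgroup.mem_subgroupOf.mpr haT), orderOf_one] at hq
      exact hrp.ne_one hq.symm
    intro q
    obtain ⟨a, rfl⟩ := QuotientGroup.mk_surjective q
    exact (hpow a).mp (hmin ⟨hTn, hZT⟩ (fun a ha => ha.1) a.2).2
  -- the action on the quotient
  have hnondeg : ∀ y : R, (y : G) ∉ Z → ∃ u : R, (u : G) * y ≠ y * u := by
    intro y hy
    by_contra h
    push_neg at h
    refine hy (hcen (R ⊓ Subgroup.centralizer (R : Set G)) inferInstance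
      (fun a ha b hb => Subgroup.mem_centralizer_iff.mp hb.2 a ha.1) ⟨y.2, ?_⟩)
    refine Subgroup.mem_centralizer_iff.mpr ?_
    exact fun u hu => h ⟨u, hu⟩
  have hmapZ : ∀ g : G, Zs.map ((MulAut.conjNormal g : R ≃* R) : R →* R) = Zs := fun g => by
    refine Subgroup.eq_of_le_of_card_ge ?_ (le_of_eq
      (Subgroup.card_map_of_injective (MulAut.conjNormal g : R ≃* R).injective).symm)
    rintro _ ⟨z, hz, rfl⟩
    rw [SetLike.mem_coe, hZsdef, Subgroup.mem_subgroupOf] at hz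
    rw [hZsdef, Subgroup.mem_subgroupOf, MonoidHom.coe_coe, MulAut.conjNormal_apply]
    exact Subgroup.Normal.conj_mem inferInstance _ hz g
  let φ : G →* MulAut (R ⧸ Zs) :=
    { toFun := fun g => QuotientGroup.congr Zs Zs (MulAut.conjNormal g) (hmapZ g)
      map_one' := MulEquiv.ext fun q => by
        obtain ⟨a, rfl⟩ := QuotientGroup.mk_surjective q
        rw [QuotientGroup.congr_mk, map_one]; rfl
      map_mul' := fun g h => MulEquiv.ext fun q => by
        obtain ⟨a, rfl⟩ := QuotientGroup.mk_surjective q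
        rw [MulAut.mul_apply, QuotientGroup.congr_mk, QuotientGroup.congr_mk,
          QuotientGroup.congr_mk, map_mul]; rfl }
  have hφ : ∀ (g : G) (a : R), φ g (a : R ⧸ Zs) =
      (((MulAut.conjNormal g : R ≃* R) a : R) : R ⧸ Zs) := fun g a => rfl
  haveI : Nontrivial (R ⧸ Zs) := Finite.one_lt_card_iff_nontrivial.mp
    (lt_of_le_of_ne Nat.card_pos fun h => hcard1 h.symm)
  have hirrφ : ∀ W : Subgroup (R ⧸ Zs), (∀ g, ∀ q ∈ W, φ g q ∈ W) → W = ⊥ ∨ W = ⊤ := by
    intro W hW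
    let T : Subgroup G := (W.comap (QuotientGroup.mk' Zs)).map R.subtype
    have hTn : T.Normal := ⟨by
      rintro _ ⟨a, ha, rfl⟩ g
      exact ⟨(MulAut.conjNormal g : R ≃* R) a, hW g _ ha, MulAut.conjNormal_apply g a⟩⟩
    have hTR : T ≤ R := Subgroup.map_subtype_le _
    have hZT : Z ≤ T := fun z hz => ⟨⟨z, hZR.le hz⟩, by
      rw [SetLike.mem_coe, Subgroup.mem_comap, QuotientGroup.mk'_apply,
        (QuotientGroup.eq_one_iff (⟨z, hZR.le hz⟩ : R)).mpr (Subgroup.mem_subgroupOf.mpr hz)]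
      exact W.one_mem, rfl⟩
    rcases hZT.lt_or_eq with hlt | heq
    · right
      rw [eq_top_iff]
      intro q _
      obtain ⟨a, rfl⟩ := QuotientGroup.mk_surjective q
      obtain ⟨b, hb, hba⟩ := hmin ⟨hTn, hlt⟩ hTR a.2
      rwa [Subtype.ext hba] at hb
    · left
      rw [Subgroup.eq_bot_iff_forall]
      intro q hq
      obtain ⟨a, rfl⟩ := QuotientGroup.mk_surjective q
      have haT : (a : G) ∈ T := ⟨a, hq, rfl⟩
      rw [← heq] at haT
      exact (QuotientGroup.eq_one_iff a).mpr (Subgroup.mem_subgroupOf.mpr haT)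
  have hcyc : ∀ q : R ⧸ Zs, ∃ b : R ⧸ Zs, ∀ m : ℕ, q ^ m ≠ b := by
    intro q
    obtain ⟨a, rfl⟩ := QuotientGroup.mk_surjective q
    by_cases ha : (a : G) ∈ Z
    · refine ⟨((⟨a₀, ha₀R⟩ : R) : R ⧸ Zs), fun m h => ha₀Z ?_⟩
      rw [(QuotientGroup.eq_one_iff a).mpr (Subgroup.mem_subgroupOf.mpr ha), one_pow, eq_comm,
        QuotientGroup.eq_one_iff, hZsdef, Subgroup.mem_subgroupOf] at h
      exact h
    · obtain ⟨u, hu⟩ := hnondeg a ha
      refine ⟨(u : R ⧸ Zs), fun m hm => hu ?_⟩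
      rw [← QuotientGroup.mk_pow, QuotientGroup.eq, hZsdef, Subgroup.mem_subgroupOf] at hm
      have e : (u : G) = (a : G) ^ m * (((a ^ m)⁻¹ * u : R) : G) := by simp
      rw [e, mul_assoc, ← hzc _ hm, ← mul_assoc, ← mul_assoc, ← pow_succ, ← pow_succ']
  obtain ⟨c₀, hc₀Z, hc₀1⟩ : ∃ c ∈ Z, c ≠ 1 := by
    by_contra h
    push_neg at h
    obtain ⟨u, hu⟩ := hnondeg ⟨a₀, ha₀R⟩ ha₀Z
    refine hu ?_
    have h' := h _ (Subgroup.mem_subgroupOf.mp (hcomR u ⟨a₀, ha₀R⟩))
    simpa [mul_inv_eq_iff_eq_mul] using h'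
  obtain ⟨d, dF, hcardA, hcardF', hlt, hd2⟩ := ModuleCount.counts hp hsmall x hx hgen r hexp φ
    hirrφ hcyc ⟨c₀, hc₀1, MulEquiv.ext fun q => by
      obtain ⟨a, rfl⟩ := QuotientGroup.mk_surjective q
      rw [hφ, MulAut.one_apply]
      refine congrArg _ (Subtype.ext ?_)
      rw [MulAut.conjNormal_apply, ← hzc c₀ hc₀Z (a : G), mul_inv_cancel_right]⟩
  -- orbits on the quotient
  set β : MulAut R := MulAut.conjNormal x with hβ
  have hβZ : ∀ z ∈ Zs, β z = z := fun z hz => by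
    rw [hZsdef, Subgroup.mem_subgroupOf] at hz
    refine Subtype.ext ?_
    rw [hβ, MulAut.conjNormal_apply, hzc _ hz x, mul_inv_cancel_right]
  have hmapeq : Zs.map (β : R →* R) = Zs := by
    refine Subgroup.eq_of_le_of_card_ge ?_ (le_of_eq
      (Subgroup.card_map_of_injective β.injective).symm)
    rintro _ ⟨z, hz, rfl⟩
    exact (hβZ z hz).symm ▸ hz
  let βq : Equiv.Perm (R ⧸ Zs) := (QuotientGroup.congr Zs Zs β hmapeq).toEquiv
  have hβq : ∀ a : R, βq (a : R ⧸ Zs) = ((β a : R) : R ⧸ Zs) := fun a => rfl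
  have hβqp : βq ^ p = 1 := by
    have hit : ∀ (i : ℕ) (a : R), (βq ^ i) (a : R ⧸ Zs) = (((β ^ i) a : R) : R ⧸ Zs) := by
      intro i
      induction i with
      | zero => intro a; rfl
      | succ i ih =>
        intro a
        rw [pow_succ, Equiv.Perm.mul_apply, hβq, ih, pow_succ, MulAut.mul_apply]
    refine Equiv.ext fun q => ?_
    obtain ⟨a, rfl⟩ := QuotientGroup.mk_surjective q
    rw [hit, hβ, ← map_pow, ← hx, pow_orderOf_eq_one, map_one]
    rfl
  obtain ⟨reps, hreps, hcount⟩ := Perm.exists_orbit_reps βq hp hβqp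
  have hcardF : Nat.card {q // βq q = q} = r ^ dF := hcardF'
  rw [hcardA, hcardF, show dF = d - (d - dF) by omega] at hcount
  have horb : 4 * reps.card ≤ Nat.card (R ⧸ Zs) :=
    hcardA ▸ Arith.four_orbits_le hp hp3 hrp (by omega) (by omega) hcount
  -- the scalar character
  choose t ht using hZs
  let μ : Zs →* k :=
    { toFun := fun z => t ((z : R) : G) (Subgroup.mem_subgroupOf.mp z.2)
      map_one' := huniq _ _ (by rw [← ht]; simp)
      map_mul' := fun z z' => huniq _ _ (by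
        rw [← ht, Subgroup.coe_mul, Subgroup.coe_mul, map_mul,
          ht _ (Subgroup.mem_subgroupOf.mp z.2), ht _ (Subgroup.mem_subgroupOf.mp z'.2),
          smul_mul_assoc, one_mul, smul_smul]) }
  have hμ : ∀ z : Zs, ρ ((z : R) : G) = μ z • 1 := fun z => ht _ _
  have hμinj : ∀ z : Zs, μ z = 1 → ((z : R) : G) = 1 := fun z h =>
    hf (by rw [hμ, h, one_smul, map_one])
  have hcome : ∀ u y : R, ((u * y * u⁻¹ * y⁻¹ : R) : G) = 1 → (u : G) * y = y * u := by
    intro u y h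
    simpa [mul_inv_eq_iff_eq_mul] using h
  have hrl : r ≠ ℓ := by
    rintro rfl
    obtain ⟨u, hu⟩ := hnondeg ⟨a₀, ha₀R⟩ ha₀Z
    refine hu (hcome u ⟨a₀, ha₀R⟩ (hμinj ⟨_, hcomR u ⟨a₀, ha₀R⟩⟩ ?_))
    set c : Zs := ⟨_, hcomR u ⟨a₀, ha₀R⟩⟩ with hc
    have hcz : ((c : R) : G) ∈ Z := Subgroup.mem_subgroupOf.mp c.2
    have hua : (u : G) * a₀ * (u : G)⁻¹ = ((c : R) : G) * a₀ := by simp [hc]
    have hap : a₀ ^ r ∈ Z := by
      have h := hexp ((⟨a₀, ha₀R⟩ : R) : R ⧸ Zs)
      rw [← QuotientGroup.mk_pow, QuotientGroup.eq_one_iff, hZsdef, Subgroup.mem_subgroupOf] at h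
      exact h
    have hcr : ((c : R) : G) ^ r = 1 := by
      have h1 : (((c : R) : G) * a₀) ^ r = a₀ ^ r := by
        rw [← hua, conj_pow, hzc _ hap, mul_inv_cancel_right]
      rwa [(show Commute ((c : R) : G) a₀ from (hzc _ hcz a₀).symm).mul_pow, mul_eq_right] at h1
    have h2 : μ c ^ r = 1 := by
      rw [← map_pow, show c ^ r = 1 from Subtype.ext (Subtype.ext (by simpa using hcr)), map_one]
    haveI : Fact r.Prime := ⟨hrp⟩
    have h3 : (μ c - 1) ^ r = 0 := by rw [sub_pow_char, h2, one_pow, sub_self]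
    exact sub_eq_zero.mp (eq_zero_of_pow_eq_zero h3)
  have hSetup : Setup Zs (1 : MulAut R) μ 1 :=
    { comm := hcomR
      nondeg := fun y hy => by
        obtain ⟨u, hu⟩ := hnondeg y fun h => hy (Subgroup.mem_subgroupOf.mpr h)
        exact ⟨u, fun h => hu (hcome u y (hμinj _ h))⟩
      ne_top := fun h => ha₀Z
        (Subgroup.mem_subgroupOf.mp (h ▸ Subgroup.mem_top (⟨a₀, ha₀R⟩ : R) : ⟨a₀, ha₀R⟩ ∈ Zs))
      inv := fun z hz => hz
      fix := fun z => rfl
      pow := one_pow 1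
      semireg := fun i hi hi1 => by omega
      cast_card := fun h => by
        haveI : CharP k ℓ := inferInstance
        rw [CharP.cast_eq_zero_iff k ℓ] at h
        obtain ⟨a, ha⟩ := exists_prime_orderOf_dvd_card' ℓ h
        have h1 : ((a : R) : R ⧸ Zs) = 1 := by
          have e1 : orderOf ((a : R) : R ⧸ Zs) ∣ ℓ :=
            ha ▸ orderOf_map_dvd (QuotientGroup.mk' Zs) a
          have e2 : orderOf ((a : R) : R ⧸ Zs) ∣ r := orderOf_dvd_of_pow_eq_one (hexp _)
          exact orderOf_eq_one_iff.mp (Nat.eq_one_of_dvd_coprimes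
            ((Nat.coprime_primes (Fact.out : ℓ.Prime) hrp).mpr hrl.symm) e1 e2)
        have haZ : a ∈ Zs := (QuotientGroup.eq_one_iff a).mp h1
        have h2 : μ ⟨a, haZ⟩ ^ ℓ = 1 := by
          rw [← map_pow, show (⟨a, haZ⟩ : Zs) ^ ℓ = 1 from
            Subtype.ext (by rw [Subgroup.coe_pow, ← ha, pow_orderOf_eq_one]; rfl), map_one]
        have h3 : (μ ⟨a, haZ⟩ - 1) ^ ℓ = 0 := by rw [sub_pow_char, h2, one_pow, sub_self]
        have h4 := hμinj _ (sub_eq_zero.mp (eq_zero_of_pow_eq_zero h3))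
        rw [show a = 1 from Subtype.ext h4, orderOf_one] at ha
        exact (Fact.out : ℓ.Prime).ne_one ha.symm }
  refine Symplectic.bound hSetup β hβZ βq hβq reps hreps horb _ (ρ.comp R.subtype) (ρ x) rfl
    (fun z => hμ z) (Weights.rho_injective ρ x) fun a => ?_
  rw [MonoidHom.comp_apply, MonoidHom.comp_apply, ← map_mul, ← map_mul, Subgroup.coe_subtype,
    hβ, MulAut.conjNormal_apply, inv_mul_cancel_right]

end Cfsg.Agent.Lib.Flavell19.Body
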