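/-
Sub- and quotient actions on an invariant subspace, and the behaviour of kernels.
-/
import Mathlib.LinearAlgebra.Dimension.RankNullity
import Mathlib.LinearAlgebra.FiniteDimensional.Basic
import Mathlib.LinearAlgebra.Isomorphisms
import Mathlib.LinearAlgebra.Dimension.RankNullity
import Mathlib.LinearAlgebra.FiniteDimensional.Lemmas

set_option autoImplicit false

namespace Cfsg.Agent.Lib.Flavell19.RepBasics

variable {G : Type*} [Group G] {k : Type*} [Field k] {V : Type*} [AddCommGroup V] [Module k V]

/-- The action on an invariant subspace. -/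
def subHom (ρ : G →* Module.End k V) (U : Submodule k V) (h : ∀ g, ∀ v ∈ U, ρ g v ∈ U) :
    G →* Module.End k U where
  toFun g := (ρ g).restrict (h g)
  map_one' := LinearMap.ext fun u => Subtype.ext (by simp [LinearMap.restrict_apply])
  map_mul' a b := LinearMap.ext fun u => Subtype.ext (by simp [LinearMap.restrict_apply])

@[simp] theorem subHom_apply (ρ : G →* Module.End k V) (U : Submodule k V)
    (h : ∀ g, ∀ v ∈ U, ρ g v ∈ U) (g : G) (u : U) : (subHom ρ U h g u : V) = ρ g u := rfl

/-- The action on the quotient by an invariant subspace. -/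
def quotHom (ρ : G →* Module.End k V) (U : Submodule k V) (h : ∀ g, ∀ v ∈ U, ρ g v ∈ U) :
    G →* Module.End k (V ⧸ U) where
  toFun g := U.mapQ U (ρ g) (h g)
  map_one' := Submodule.linearMap_qext _ (LinearMap.ext fun v => by simp)
  map_mul' a b := Submodule.linearMap_qext _ (LinearMap.ext fun v => by simp)

@[simp] theorem quotHom_apply (ρ : G →* Module.End k V) (U : Submodule k V)
    (h : ∀ g, ∀ v ∈ U, ρ g v ∈ U) (g : G) (v : V) :
    quotHom ρ U h g (Submodule.Quotient.mk v) = Submodule.Quotient.mk (ρ g v) := rfl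

/-- Kernels along an invariant subspace. -/
theorem finrank_ker_le [FiniteDimensional k V] (U : Submodule k V) (f : Module.End k V)
    (f₁ : Module.End k U) (f₂ : Module.End k (V ⧸ U)) (h₁ : ∀ u : U, (f₁ u : V) = f u)
    (h₂ : ∀ v, f₂ (Submodule.Quotient.mk v) = Submodule.Quotient.mk (f v)) :
    Module.finrank k (LinearMap.ker f) ≤
      Module.finrank k (LinearMap.ker f₁) + Module.finrank k (LinearMap.ker f₂) := by
  set g : LinearMap.ker f →ₗ[k] V ⧸ U := U.mkQ.comp (LinearMap.ker f).subtype with hg
  rw [← g.finrank_range_add_finrank_ker, add_comm]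
  refine add_le_add ?_ (Submodule.finrank_mono ?_)
  · have hmem : ∀ x : LinearMap.ker g, ((x : LinearMap.ker f) : V) ∈ U := fun x =>
      (Submodule.Quotient.mk_eq_zero U).mp (LinearMap.mem_ker.mp x.2)
    refine LinearMap.finrank_le_finrank_of_injective
      (f := LinearMap.codRestrict (LinearMap.ker f₁)
        (LinearMap.codRestrict U ((LinearMap.ker f).subtype.comp (LinearMap.ker g).subtype) hmem)
        fun x => Subtype.ext ?_) ?_
    · rw [h₁]
      exact x.1.2
    · intro a b h
      exact Subtype.ext (Subtype.ext (congrArg (fun t : LinearMap.ker f₁ => ((t : U) : V)) h))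
  · rintro _ ⟨x, rfl⟩
    rw [LinearMap.mem_ker]
    change f₂ (Submodule.Quotient.mk (x : V)) = 0
    rw [h₂, LinearMap.mem_ker.mp x.2, Submodule.Quotient.mk_zero]

end Cfsg.Agent.Lib.Flavell19.RepBasics
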