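/-
Fixed spaces of elements of prime order `p > 3` on irreducible modules of solvable groups
generated by their conjugates: descent to an arbitrary field and the induction.
-/
import Mathlib.FieldTheory.IsAlgClosed.AlgebraicClosure
import Mathlib.LinearAlgebra.Matrix.ToLin
import Mathlib.GroupTheory.PGroup
import Mathlib.Algebra.CharP.Lemmas
import Mathlib.Algebra.CharP.Algebra
import Cfsg.Agent.Lib.Flavell19.Body
import Cfsg.Agent.Lib.Flavell19.RepBasics

set_option autoImplicit false

namespace Cfsg.Agent.Lib.Flavell19.Main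

open Module Cfsg.Agent.Lib.FpfHeight.Extraspecial Cfsg.Agent.Lib.Flavell19.RepBasics
open scoped Matrix

universe u

/-- The sum over a subgroup. -/
noncomputable def avgSum {G : Type u} [Group G] [Finite G] {k : Type*} [Field k] {V : Type*}
    [AddCommGroup V] [Module k V] (N : Subgroup G) (ρ : G →* Module.End k V) : Module.End k V :=
  letI := Fintype.ofFinite N
  ∑ n : N, ρ n

/-- Over an algebraically closed field, for modules with vanishing sum over a normal subgroup of
invertible order. -/
theorem closed_bound {G : Type u} [Group G] [Finite G] [Group.IsSolvable G] {p : ℕ} (hp : p.Prime)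
    (hp3 : 3 < p) (hsmall : ModuleCount.Small.{u} p (Nat.card G)) (x : G) (hx : orderOf x = p)
    (hgen : Subgroup.normalClosure {x} = ⊤)
    {k : Type*} [Field k] [IsAlgClosed k] (ℓ : ℕ) [Fact ℓ.Prime] [CharP k ℓ]
    (N : Subgroup G) (hNk : (Nat.card N : k) ≠ 0) :
    ∀ (n : ℕ) {W : Type*} [AddCommGroup W] [Module k W] [FiniteDimensional k W] [Nontrivial W]
      (τ : G →* Module.End k W), finrank k W = n → avgSum N τ = 0 →
        2 * finrank k (LinearMap.ker (τ x - 1)) < finrank k W := by
  intro n
  induction n using Nat.strong_induction_on with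
  | _ n ih =>
  intro W _ _ _ _ τ hn hsum
  by_cases hirr : IsIrred τ
  · have hτx : τ x ≠ 1 := by
      intro h
      have hker : τ.ker = ⊤ := top_unique (hgen ▸ Subgroup.normalClosure_le_normal
        (Set.singleton_subset_iff.mpr (MonoidHom.mem_ker.mpr h)))
      obtain ⟨w, hw⟩ := exists_ne (0 : W)
      letI := Fintype.ofFinite N
      have h1 : avgSum N τ w = (Nat.card N : k) • w := by
        rw [avgSum, LinearMap.sum_apply, Finset.sum_congr rfl fun m _ => by
          rw [MonoidHom.mem_ker.mp (hker ▸ Subgroup.mem_top (m : G) : (m : G) ∈ τ.ker),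
            Module.End.one_apply], Finset.sum_const, Finset.card_univ, ← Nat.card_eq_fintype_card,
          Nat.cast_smul_eq_nsmul]
      rw [hsum, LinearMap.zero_apply] at h1
      exact hw ((smul_eq_zero.mp h1.symm).resolve_left hNk)
    obtain ⟨σ, y, hy, hygen, hinj, hσy, hσg⟩ := ModuleCount.quotient_data hp τ x hx hgen hτx
    have hsmall' : ModuleCount.Small.{u} p (Nat.card (G ⧸ τ.ker)) :=
      fun H _ _ _ hH => hsmall H (hH.trans_le (Subgroup.card_quotient_dvd_card τ.ker |>
        Nat.le_of_dvd Nat.card_pos))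
    rw [← hσy]
    exact Body.body hp hp3 hsmall' y hy hygen ℓ σ
      (fun U hU => hirr U fun g w hw => by rw [← hσg]; exact hU _ w hw) hinj
  unfold IsIrred at hirr
  push_neg at hirr
  obtain ⟨U, hU, hUb, hUt⟩ := hirr
  haveI : Nontrivial U := Submodule.nontrivial_iff_ne_bot.mpr hUb
  haveI : Nontrivial (W ⧸ U) := Submodule.Quotient.nontrivial_iff.mpr hUt
  have hdim := U.finrank_quotient_add_finrank
  have hpos1 : 0 < finrank k U := Module.finrank_pos
  have hpos2 : 0 < finrank k (W ⧸ U) := Module.finrank_pos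
  letI := Fintype.ofFinite N
  have hs : ∀ w, ∑ m : N, τ m w = 0 := fun w => by
    rw [← LinearMap.sum_apply]
    exact LinearMap.congr_fun hsum w
  have h1 := ih (finrank k U) (by omega) (subHom τ U hU) rfl (by
    refine LinearMap.ext fun u => Subtype.ext ?_
    rw [avgSum, LinearMap.sum_apply, AddSubmonoidClass.coe_finsetSum]
    simpa using hs (u : W))
  have h2 := ih (finrank k (W ⧸ U)) (by omega) (quotHom τ U hU) rfl (by
    refine Submodule.linearMap_qext _ (LinearMap.ext fun w => ?_)
    rw [LinearMap.comp_apply, Submodule.mkQ_apply, avgSum, LinearMap.sum_apply]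
    simp only [quotHom_apply]
    have h := congrArg (Submodule.mkQ U) (hs w)
    rw [map_sum, map_zero] at h
    exact h)
  have h3 := finrank_ker_le U (τ x - 1) (subHom τ U hU x - 1) (quotHom τ U hU x - 1)
    (fun u => rfl) (fun v => rfl)
  omega

/-- Descent to an arbitrary field. -/
theorem descent {G : Type u} [Group G] [Finite G] [Group.IsSolvable G] {p : ℕ} (hp : p.Prime)
    (hp3 : 3 < p) (hsmall : ModuleCount.Small.{u} p (Nat.card G)) (x : G) (hx : orderOf x = p)
    (hgen : Subgroup.normalClosure {x} = ⊤)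
    {k : Type*} [Field k] (ℓ : ℕ) [Fact ℓ.Prime] [CharP k ℓ]
    {V : Type*} [AddCommGroup V] [Module k V] [FiniteDimensional k V] [Nontrivial V]
    (ρ : G →* Module.End k V) (hirr : IsIrred ρ) (hf : Function.Injective ρ) :
    2 * finrank k (LinearMap.ker (ρ x - 1)) < finrank k V := by
  classical
  haveI : Nontrivial G := ⟨⟨x, 1, fun h => by rw [h, orderOf_one] at hx; exact hp.ne_one hx.symm⟩⟩
  -- an abelian normal subgroup of prime exponent
  obtain ⟨A, hAn, hA, hAne⟩ : ∃ A : Subgroup G, A.Normal ∧
      (∀ a ∈ A, ∀ b ∈ A, a * b = b * a) ∧ A ≠ ⊥ := by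
    obtain ⟨m, hm⟩ := (Group.isSolvable_def G).mp inferInstance
    have hex : ∃ j, derivedSeries G j = ⊥ := ⟨m, hm⟩
    rcases hj : Nat.find hex with _ | j
    · exact absurd (by simpa [hj] using Nat.find_spec hex) (top_ne_bot (α := Subgroup G))
    · refine ⟨derivedSeries G j, derivedSeries_normal G j, fun a ha b hb => ?_,
        Nat.find_min hex (by omega)⟩
      have h := Nat.find_spec hex
      rw [hj, derivedSeries_succ] at h
      have h' := Subgroup.commutator_mem_commutator ha hb
      rw [h, Subgroup.mem_bot, commutatorElement_eq_one_iff_mul_comm] at h'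
      exact h'
  obtain ⟨q, hqp, hqd⟩ := Nat.exists_prime_and_dvd
    (fun h => hAne (Subgroup.card_eq_one.mp h) : Nat.card A ≠ 1)
  haveI := Fact.mk hqp
  let N : Subgroup G :=
    { carrier := {a | a ∈ A ∧ a ^ q = 1}
      one_mem' := ⟨A.one_mem, one_pow q⟩
      mul_mem' := fun {a b} ha hb => ⟨A.mul_mem ha.1 hb.1, by
        rw [(show Commute a b from hA a ha.1 b hb.1).mul_pow, ha.2, hb.2, one_mul]⟩
      inv_mem' := fun {a} ha => ⟨A.inv_mem ha.1, by rw [inv_pow, ha.2, inv_one]⟩ }
  have hNn : N.Normal := ⟨fun a ha g => ⟨hAn.conj_mem a ha.1 g, by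
    rw [conj_pow, ha.2, mul_one, mul_inv_cancel]⟩⟩
  obtain ⟨a, ha⟩ := exists_prime_orderOf_dvd_card' q hqd
  have haN : (a : G) ∈ N := ⟨a.2, by rw [← Subgroup.coe_pow, ← ha, pow_orderOf_eq_one]; rfl⟩
  let Fix : Submodule k V := ⨅ m : N, LinearMap.ker (ρ m - 1)
  have hFix : ∀ v, v ∈ Fix ↔ ∀ m : N, ρ m v = v := fun v => by simp [Fix, sub_eq_zero]
  have hFix0 : Fix = ⊥ := by
    refine (hirr Fix fun g v hv => ?_).resolve_right fun h => ?_
    · rw [hFix] at hv ⊢
      intro m
      have e : (m : G) * g = g * (g⁻¹ * m * g) := by simp [mul_assoc]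
      rw [← Module.End.mul_apply, ← map_mul, e, map_mul, Module.End.mul_apply,
        hv ⟨g⁻¹ * m * g, by simpa using hNn.conj_mem m m.2 g⁻¹⟩]
    · have h1 : (a : G) = 1 := hf (LinearMap.ext fun v => by
        rw [map_one, Module.End.one_apply]
        exact (hFix v).mp (h ▸ Submodule.mem_top) ⟨a, haN⟩)
      rw [show a = 1 from Subtype.ext h1, orderOf_one] at ha
      exact hqp.ne_one ha.symm
  have hql : q ≠ ℓ := by
    rintro rfl
    obtain ⟨U, ⟨hUinv, hUne⟩, hUmin⟩ := exists_minimal_of_wellFoundedLT
      (fun W : Submodule k V => (∀ m : N, ∀ w ∈ W, ρ m w ∈ W) ∧ W ≠ ⊥)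
      ⟨⊤, fun _ _ _ => Submodule.mem_top, top_ne_bot⟩
    refine hUne (le_bot_iff.mp (hFix0 ▸ fun v hv => (hFix v).mpr fun m => ?_))
    haveI : ExpChar (Module.End k V) q := by
      haveI : CharP (Module.End k V) q :=
        charP_of_injective_algebraMap (algebraMap k (Module.End k V)).injective q
      exact ExpChar.prime hqp
    have hnil : (ρ m - 1) ^ q = 0 := by
      rw [sub_pow_expChar_of_commute q (Commute.one_right (ρ m)), one_pow, ← map_pow, m.2.2, map_one,
        sub_self]
    have hle : U ≤ U ⊓ LinearMap.ker (ρ m - 1) := by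
      refine hUmin ⟨fun m' w hw => ⟨hUinv m' w hw.1, ?_⟩, fun h0 => hUne ?_⟩ inf_le_left
      · have h2 : ρ m w = w := by
          have h := LinearMap.mem_ker.mp hw.2
          rwa [LinearMap.sub_apply, Module.End.one_apply, sub_eq_zero] at h
        rw [SetLike.mem_coe, LinearMap.mem_ker, LinearMap.sub_apply, Module.End.one_apply,
          ← Module.End.mul_apply, ← map_mul, hA _ m.2.1 _ m'.2.1, map_mul, Module.End.mul_apply,
          h2, sub_self]
      · have hpow : ∀ i : ℕ, ∀ v ∈ U, ((ρ m - 1) ^ i) v = 0 → v = 0 := by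
          intro i
          induction i with
          | zero => intro v _ h; simpa using h
          | succ i ihi =>
            intro v hv h
            rw [pow_succ, Module.End.mul_apply] at h
            have h1 := ihi _ (U.sub_mem (hUinv m v hv) hv) h
            exact (Submodule.eq_bot_iff _).mp h0 v ⟨hv, h1⟩
        exact (Submodule.eq_bot_iff _).mpr fun v hv => hpow q v hv (by rw [hnil]; rfl)
    have h := LinearMap.mem_ker.mp (hle hv).2
    rwa [LinearMap.sub_apply, Module.End.one_apply, sub_eq_zero] at h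
  have hNk : (Nat.card N : k) ≠ 0 := by
    obtain ⟨e, he⟩ := IsPGroup.iff_card.mp (fun m => ⟨1, Subtype.ext (by
      rw [pow_one, Subgroup.coe_pow, m.2.2]; rfl)⟩ : IsPGroup q N)
    rw [he, Nat.cast_pow]
    refine pow_ne_zero _ fun h => hql ?_
    rw [CharP.cast_eq_zero_iff k ℓ] at h
    exact ((Nat.prime_dvd_prime_iff_eq Fact.out hqp).mp h).symm
  have hsum : avgSum N ρ = 0 := by
    letI := Fintype.ofFinite N
    refine LinearMap.ext fun v => ?_
    rw [LinearMap.zero_apply, ← Submodule.mem_bot (R := k), ← hFix0, hFix]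
    intro m
    rw [avgSum, LinearMap.sum_apply, map_sum]
    refine Fintype.sum_bijective (m * ·) (Group.mulLeft_bijective m) _ _ fun m' => ?_
    rw [← Module.End.mul_apply, ← map_mul]
    rfl
  -- extension of scalars
  set b := Module.finBasis k V
  set K := AlgebraicClosure k
  haveI : CharP K ℓ := charP_of_injective_algebraMap (algebraMap k K).injective ℓ
  let Φ : Module.End k V →+* Module.End K (Fin (finrank k V) → K) :=
    (Matrix.toLinAlgEquiv' (R := K) (n := Fin (finrank k V))).toRingEquiv.toRingHom.comp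
      (((algebraMap k K).mapMatrix).comp (LinearMap.toMatrixAlgEquiv b).toRingEquiv.toRingHom)
  let τ : G →* Module.End K (Fin (finrank k V) → K) := Φ.toMonoidHom.comp ρ
  haveI : Nonempty (Fin (finrank k V)) := ⟨⟨0, Module.finrank_pos⟩⟩
  have hmain := closed_bound hp hp3 hsmall x hx hgen (k := K) ℓ N
    (by rw [← map_natCast (algebraMap k K), Ne, map_eq_zero]; exact hNk) _ τ rfl (by
      letI := Fintype.ofFinite N
      change ∑ m : N, Φ (ρ m) = 0
      rw [← map_sum]
      exact (congrArg Φ hsum).trans (map_zero Φ))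
  have hcomm : ∀ (f : Module.End k V) (v : V),
      Φ f (algebraMap k K ∘ b.repr v) = algebraMap k K ∘ b.repr (f v) := by
    intro f v
    change ((LinearMap.toMatrixAlgEquiv b f).map (algebraMap k K)).mulVec _ = _
    rw [← LinearMap.toMatrix_mulVec_repr b b f v]
    funext i
    exact (RingHom.map_mulVec (algebraMap k K) _ _ i).symm
  have hle : finrank k (LinearMap.ker (ρ x - 1)) ≤ finrank K (LinearMap.ker (τ x - 1)) := by
    set f := ρ x - 1 with hfdef
    have hτ : τ x - 1 = Φ f := by rw [hfdef, map_sub, map_one]; rfl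
    rw [hτ]
    let cf := Module.finBasis k (LinearMap.range f)
    have hrange : LinearMap.range (Φ f) ≤
        Submodule.span K (Set.range fun i => algebraMap k K ∘ b.repr (cf i : V)) := by
      let bK := Pi.basisFun K (Fin (finrank k V))
      rw [LinearMap.range_eq_map, ← bK.span_eq, Submodule.map_span, Submodule.span_le]
      rintro _ ⟨_, ⟨i, rfl⟩, rfl⟩
      have hb : bK i = algebraMap k K ∘ b.repr (b i) := by
        funext j
        simp [bK, Finsupp.single_apply, Pi.single_apply, eq_comm, apply_ite (algebraMap k K)]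
      rw [hb, hcomm]
      obtain ⟨w, hw⟩ : ∃ w : LinearMap.range f, (w : V) = f (b i) :=
        ⟨⟨f (b i), LinearMap.mem_range_self f _⟩, rfl⟩
      rw [← hw]
      have e : algebraMap k K ∘ b.repr (w : V) =
          ∑ j, algebraMap k K (cf.repr w j) • (algebraMap k K ∘ b.repr (cf j : V)) := by
        have hwsum : (w : V) = ∑ j, cf.repr w j • (cf j : V) := by
          have h := congrArg (LinearMap.range f).subtype (cf.sum_repr w)
          rw [map_sum] at h
          simp only [map_smul, Submodule.subtype_apply] at h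
          exact h.symm
        funext l
        rw [Function.comp_apply, hwsum]
        simp [map_sum, Finsupp.finsetSum_apply, Finset.sum_apply, Algebra.smul_def]
      rw [SetLike.mem_coe, e]
      exact Submodule.sum_mem _ fun j _ => Submodule.smul_mem _ _ (Submodule.subset_span ⟨j, rfl⟩)
    have h1 := (Submodule.finrank_mono hrange).trans (finrank_range_le_card _)
    rw [Fintype.card_fin] at h1
    have h2 : finrank K (LinearMap.range (Φ f)) + finrank K (LinearMap.ker (Φ f)) =
        finrank k V := by
      rw [LinearMap.finrank_range_add_finrank_ker, Module.finrank_fin_fun]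
    have h3 := f.finrank_range_add_finrank_ker
    omega
  rw [Module.finrank_fin_fun] at hmain
  omega

/-- The induction. -/
theorem small (p : ℕ) (hp : p.Prime) (hp3 : 3 < p) : ∀ n, ModuleCount.Small.{u} p n := by
  intro n
  induction n with
  | zero => intro H _ _ _ h; exact absurd h (Nat.not_lt_zero _)
  | succ n ih =>
    intro H _ _ _ hH y hy hgen r _ A _ _ _ σ hA hirr hinj
    haveI := hA
    haveI : Module.Finite (ZMod r) A := Module.Finite.of_finite
    exact descent hp hp3 (fun H' _ _ _ h => ih H' (lt_of_lt_of_le h (Nat.lt_succ_iff.mp hH)))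
      y hy hgen r σ hirr hinj

/-- The bound. -/
theorem fixed_lt_half {G : Type u} [Group G] [Finite G] [Group.IsSolvable G] {p : ℕ}
    (hp : p.Prime) (hp3 : 3 < p) (x : G) (hx : orderOf x = p)
    (hgen : Subgroup.normalClosure {x} = ⊤)
    {k : Type*} [Field k] (ℓ : ℕ) [Fact ℓ.Prime] [CharP k ℓ]
    {V : Type*} [AddCommGroup V] [Module k V] [FiniteDimensional k V] [Nontrivial V]
    (ρ : G →* Module.End k V) (hirr : IsIrred ρ) (hf : Function.Injective ρ) :
    2 * finrank k (LinearMap.ker (ρ x - 1)) < finrank k V :=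
  descent hp hp3 (small p hp hp3 _) x hx hgen ℓ ρ hirr hf

end Cfsg.Agent.Lib.Flavell19.Main
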