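/-
In `W ⋊ A` with `A = ⟨x, x'⟩`: if the centralizer of `x` in `W` has order less than the square
root of `|W|` then some `⟨x, w x' w⁻¹⟩` is everything.
-/
import Mathlib.GroupTheory.Sylow
import Mathlib.GroupTheory.PGroup
import Mathlib.GroupTheory.Commutator.Basic
import Mathlib.Tactic.Group
import Cfsg.Agent.Lib.Flavell19.Main

set_option autoImplicit false

namespace Cfsg.Agent.Lib.Flavell19.Generate

open Module Cfsg.Agent.Lib.FpfHeight.Extraspecial
open scoped Pointwise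

universe u

theorem bound_zmod {Γ : Type u} [Group Γ] [Finite Γ] [Group.IsSolvable Γ] {p : ℕ} (hp : p.Prime)
    (hp3 : 3 < p) (x : Γ) (hx : orderOf x = p) (hgen : Subgroup.normalClosure {x} = ⊤)
    (r : ℕ) [Fact r.Prime] {W : Type u} [CommGroup W] [Finite W] [Nontrivial W]
    [Module (ZMod r) (Additive W)] (φ : Γ →* MulAut W)
    (hirr : ∀ T : Subgroup W, (∀ g, ∀ t ∈ T, φ g t ∈ T) → T = ⊥ ∨ T = ⊤) (hφx : φ x ≠ 1) :
    Nat.card {w // φ x w = w} * Nat.card {w // φ x w = w} < Nat.card W := by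
  let σ : Γ →* Module.End (ZMod r) (Additive W) :=
    { toFun := fun g => AddMonoidHom.toZModLinearMap r (MonoidHom.toAdditive (φ g).toMonoidHom)
      map_one' := LinearMap.ext fun q => by
        change Additive.ofMul (φ 1 q.toMul) = q
        rw [map_one]; rfl
      map_mul' := fun g h => LinearMap.ext fun q => by
        change Additive.ofMul (φ (g * h) q.toMul) = Additive.ofMul (φ g (φ h q.toMul))
        rw [map_mul]; rfl }
  haveI : Module.Finite (ZMod r) (Additive W) := Module.Finite.of_finite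
  have hσirr : IsIrred σ := by
    intro U hU
    rcases hirr (AddSubgroup.toSubgroup' U.toAddSubgroup) (fun g q hq => hU g _ hq) with h | h
    · left
      rw [Submodule.eq_bot_iff]
      intro w hw
      have hm : w.toMul ∈ AddSubgroup.toSubgroup' U.toAddSubgroup := hw
      rw [h, Subgroup.mem_bot] at hm
      exact hm
    · right
      rw [eq_top_iff]
      intro w _
      have hm : w.toMul ∈ AddSubgroup.toSubgroup' U.toAddSubgroup := h ▸ Subgroup.mem_top _
      exact hm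
  have hσx : σ x ≠ 1 := fun h => hφx (MulEquiv.ext fun w =>
    congrArg Additive.toMul (LinearMap.congr_fun h (Additive.ofMul w)))
  obtain ⟨σ', y, hy, hygen, hinj, hσy, hσg⟩ := ModuleCount.quotient_data hp σ x hx hgen hσx
  have h := Main.fixed_lt_half hp hp3 y hy hygen r σ'
    (fun U hU => hσirr U fun g w hw => by rw [← hσg]; exact hU _ w hw) hinj
  rw [hσy] at h
  have hW : Nat.card W = r ^ finrank (ZMod r) (Additive W) := by
    rw [Nat.card_congr (Additive.ofMul (α := W)),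
      Module.natCard_eq_pow_finrank (K := ZMod r) (V := Additive W), Nat.card_zmod]
  have hF : Nat.card {w // φ x w = w} = r ^ finrank (ZMod r) (LinearMap.ker (σ x - 1)) := by
    have h' := Module.natCard_eq_pow_finrank (K := ZMod r) (V := LinearMap.ker (σ x - 1))
    rw [Nat.card_zmod] at h'
    rw [← h']
    refine Nat.card_congr ((Additive.ofMul (α := W)).subtypeEquiv fun w => ?_)
    rw [LinearMap.mem_ker, LinearMap.sub_apply, sub_eq_zero]
    exact Iff.rfl
  rw [hW, hF, ← pow_add]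
  exact Nat.pow_lt_pow_right (Fact.out : r.Prime).one_lt (by omega)

/-- The fixed points of an element on an irreducible abelian `r`-group. -/
theorem bound {Γ : Type u} [Group Γ] [Finite Γ] [Group.IsSolvable Γ] {p : ℕ} (hp : p.Prime)
    (hp3 : 3 < p) (x : Γ) (hx : orderOf x = p) (hgen : Subgroup.normalClosure {x} = ⊤)
    (r : ℕ) [Fact r.Prime] {W : Type u} [CommGroup W] [Finite W] [Nontrivial W]
    (hWr : IsPGroup r W) (φ : Γ →* MulAut W)
    (hirr : ∀ T : Subgroup W, (∀ g, ∀ t ∈ T, φ g t ∈ T) → T = ⊥ ∨ T = ⊤) (hφx : φ x ≠ 1) :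
    Nat.card {w // φ x w = w} * Nat.card {w // φ x w = w} < Nat.card W := by
  let T : Subgroup W :=
    { carrier := {w | w ^ r = 1}
      one_mem' := one_pow r
      mul_mem' := fun {a b} (ha : a ^ r = 1) (hb : b ^ r = 1) => by
        change (a * b) ^ r = 1
        rw [mul_pow, ha, hb, one_mul]
      inv_mem' := fun {a} (ha : a ^ r = 1) => by
        change a⁻¹ ^ r = 1
        rw [inv_pow, ha, inv_one] }
  have hTtop : T = ⊤ := by
    refine (hirr T fun g t (ht : t ^ r = 1) => ?_).resolve_left ?_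
    · change φ g t ^ r = 1
      rw [← map_pow, ht, map_one]
    · obtain ⟨n, hn⟩ := IsPGroup.iff_card.mp hWr
      have hn0 : n ≠ 0 := fun h => by
        rw [h, pow_zero] at hn
        exact (Finite.one_lt_card (α := W)).ne' hn
      obtain ⟨w, hw⟩ := exists_prime_orderOf_dvd_card' r (hn ▸ dvd_pow_self r hn0)
      intro hbot
      have hm : w ∈ T := by
        change w ^ r = 1
        rw [← hw, pow_orderOf_eq_one]
      rw [hbot, Subgroup.mem_bot] at hm
      rw [hm, orderOf_one] at hw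
      exact (Fact.out : r.Prime).ne_one hw.symm
  letI : Module (ZMod r) (Additive W) := AddCommGroup.zmodModule fun a =>
    congrArg Additive.ofMul ((hTtop ▸ Subgroup.mem_top a.toMul : a.toMul ∈ T) : a.toMul ^ r = 1)
  exact bound_zmod hp hp3 x hx hgen r φ hirr hφx

/-- The count showing that some pair generates. -/
theorem exists_generating {H : Type*} [Group H] [Finite H] (W A Q : Subgroup H) [W.Normal]
    (hW : ∀ v ∈ W, ∀ w ∈ W, v * w = w * v)
    (hmin : ∀ T : Subgroup H, T.Normal → T ≤ W → T = ⊥ ∨ T = W)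
    (hWA : W ⊓ A = ⊥) (hsup : W ⊔ A = ⊤) (hQA : Q ≤ A)
    (hQn : A ≤ Subgroup.normalizer (Q : Set H))
    {q r : ℕ} [Fact q.Prime] [Fact r.Prime] (hqr : q ≠ r) (hQ : IsPGroup q Q) (hWr : IsPGroup r W)
    (hCQ : ∀ w ∈ W, (∀ y ∈ Q, y * w = w * y) → w = 1) {x a : H} (hx : x ∈ A) (ha : a ∈ A)
    (hgen : A = Subgroup.zpowers x ⊔ Subgroup.zpowers (a * x * a⁻¹))
    (hbound : Nat.card {w : W // x * w * x⁻¹ = (w : H)} * Nat.card {w : W // x * w * x⁻¹ = (w : H)} <
      Nat.card W) :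
    ∃ w ∈ W, Subgroup.zpowers x ⊔ Subgroup.zpowers (w * a * x * (w * a)⁻¹) = ⊤ := by
  classical
  by_contra hno
  push_neg at hno
  have hWQ : W ⊓ Q = ⊥ := le_bot_iff.mp ((inf_le_inf_left W hQA).trans hWA.le)
  have hnorm : ∀ X : Subgroup H, (∀ h ∈ A, ∀ z ∈ X, h * z * h⁻¹ ∈ X) →
      (∀ v ∈ W, ∀ z ∈ X, v * z * v⁻¹ ∈ X) → X.Normal := fun X hA hW' => ⟨fun z hz h => by
    have hh : h ∈ (W : Set H) * (A : Set H) := by
      rw [← Subgroup.normal_mul, hsup]; trivial
    obtain ⟨v, hv, b, hb, rfl⟩ := Set.mem_mul.mp hh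
    rw [show v * b * z * (v * b)⁻¹ = v * (b * z * b⁻¹) * v⁻¹ by group]
    exact hW' v hv _ (hA b hb z hz)⟩
  set K := W ⊔ Q with hK
  haveI hKn : K.Normal := by
    refine hnorm K (fun h hh z hz => ?_) fun v hv z hz => ?_
    · rw [hK, ← SetLike.mem_coe, Subgroup.normal_mul] at hz
      obtain ⟨v, hv, y, hy, rfl⟩ := Set.mem_mul.mp hz
      rw [show h * (v * y) * h⁻¹ = h * v * h⁻¹ * (h * y * h⁻¹) by group]
      exact K.mul_mem (Subgroup.mem_sup_left (‹W.Normal›.conj_mem v hv h))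
        (Subgroup.mem_sup_right ((Subgroup.mem_normalizer_iff.mp (hQn hh) y).mp hy))
    · exact K.mul_mem (K.mul_mem (Subgroup.mem_sup_left hv) hz)
        (K.inv_mem (Subgroup.mem_sup_left hv))
  have hcardK : ∀ Y : Subgroup H, W ⊓ Y = ⊥ → W ⊔ Y = K → Nat.card K = Nat.card W * Nat.card Y := by
    intro Y hd hs
    rw [← Nat.card_prod]
    symm
    refine Nat.card_eq_of_bijective (fun z : W × Y => (⟨z.1 * z.2, hs ▸ Subgroup.mul_mem _
      (Subgroup.mem_sup_left z.1.2) (Subgroup.mem_sup_right z.2.2)⟩ : K)) ⟨?_, ?_⟩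
    · intro z z' h
      exact Subgroup.mul_injective_of_disjoint (disjoint_iff.mpr hd) (congrArg Subtype.val h)
    · rintro ⟨z, hz⟩
      rw [← hs, ← SetLike.mem_coe, Subgroup.normal_mul] at hz
      obtain ⟨v, hv, y, hy, rfl⟩ := Set.mem_mul.mp hz
      exact ⟨(⟨v, hv⟩, ⟨y, hy⟩), rfl⟩
  have key : ∀ w : W, ∃ v : W, x * v * x⁻¹ = (v : H) ∧
      a * x * a⁻¹ * ((v : H)⁻¹ * w) * (a * x * a⁻¹)⁻¹ = (v : H)⁻¹ * w := by
    intro w
    set x' := a * x * a⁻¹ with hx'
    have hx'A : x' ∈ A := A.mul_mem (A.mul_mem ha hx) (A.inv_mem ha)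
    set C := Subgroup.zpowers x ⊔ Subgroup.zpowers ((w : H) * x' * (w : H)⁻¹) with hC
    have hCne : C ≠ ⊤ := by
      have h := hno w w.2
      rwa [show (w : H) * a * x * ((w : H) * a)⁻¹ = w * x' * (w : H)⁻¹ by rw [hx']; group] at h
    have hxC : x ∈ C := Subgroup.mem_sup_left (Subgroup.mem_zpowers x)
    have hx'C : (w : H) * x' * (w : H)⁻¹ ∈ C := Subgroup.mem_sup_right (Subgroup.mem_zpowers _)
    have hWC : W ⊔ C = ⊤ := by
      refine top_unique (hsup ▸ sup_le le_sup_left ?_)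
      rw [hgen, sup_le_iff, Subgroup.zpowers_le, Subgroup.zpowers_le]
      refine ⟨Subgroup.mem_sup_right hxC, ?_⟩
      rw [show x' = (w : H)⁻¹ * ((w : H) * x' * (w : H)⁻¹) * w by group]
      exact Subgroup.mul_mem _ (Subgroup.mul_mem _ (Subgroup.mem_sup_left (W.inv_mem w.2))
        (Subgroup.mem_sup_right hx'C)) (Subgroup.mem_sup_left w.2)
    have hdecomp : ∀ h : H, ∃ v ∈ W, ∃ c ∈ C, v * c = h := fun h => by
      have hh : h ∈ (W : Set H) * (C : Set H) := by
        rw [← Subgroup.normal_mul, hWC]; trivial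
      exact Set.mem_mul.mp hh
    haveI hCWn : (C ⊓ W).Normal := ⟨fun z hz h => by
      obtain ⟨v, hv, c, hc, rfl⟩ := hdecomp h
      have h1 : c * z * c⁻¹ ∈ C ⊓ W :=
        ⟨C.mul_mem (C.mul_mem hc hz.1) (C.inv_mem hc), ‹W.Normal›.conj_mem z hz.2 c⟩
      rwa [show v * c * z * (v * c)⁻¹ = v * (c * z * c⁻¹) * v⁻¹ by group,
        hW v hv _ h1.2, mul_inv_cancel_right]⟩
    have hCW : C ⊓ W = ⊥ := (hmin _ hCWn inf_le_right).resolve_right fun h => hCne (by
      rw [← hWC, sup_eq_right.mpr (h.ge.trans inf_le_left)])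
    set QC := C ⊓ K with hQC
    have hWQC : W ⊔ QC = K := by
      refine le_antisymm (sup_le le_sup_left inf_le_right) fun z hz => ?_
      obtain ⟨v, hv, c, hc, rfl⟩ := hdecomp z
      have hcK : c ∈ K := by
        have h := K.mul_mem (K.inv_mem (Subgroup.mem_sup_left hv : v ∈ K)) hz
        rwa [inv_mul_cancel_left] at h
      exact Subgroup.mul_mem _ (Subgroup.mem_sup_left hv) (Subgroup.mem_sup_right ⟨hc, hcK⟩)
    have hWQC' : W ⊓ QC = ⊥ := le_bot_iff.mp (fun z hz => hCW.le ⟨hz.2.1, hz.1⟩)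
    have hcard : Nat.card QC = Nat.card Q := by
      have h := (hcardK QC hWQC' hWQC).symm.trans (hcardK Q hWQ rfl)
      exact mul_left_cancel₀ Nat.card_pos.ne' h
    obtain ⟨nW, hnW⟩ := IsPGroup.iff_card.mp hWr
    obtain ⟨nQ, hnQ⟩ := IsPGroup.iff_card.mp hQ
    have hsyl : ∀ Y : Subgroup H, Y ≤ K → Nat.card Y = Nat.card Q →
        ∃ S : Sylow q K, ∀ z : K, z ∈ S ↔ (z : H) ∈ Y := by
      intro Y hY hYc
      have hp : IsPGroup q (Y.subgroupOf K) := (IsPGroup.of_card (hYc.trans hnQ)).comap_subtype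
      have hidx : ¬ q ∣ (Y.subgroupOf K).index := by
        have h1 := (Y.subgroupOf K).card_mul_index
        rw [Nat.card_congr (Subgroup.subgroupOfEquivOfLe hY).toEquiv, hYc,
          hcardK Q hWQ rfl, mul_comm (Nat.card W), mul_right_inj' Nat.card_pos.ne'] at h1
        rw [h1, hnW]
        intro hd
        exact hqr ((Nat.prime_dvd_prime_iff_eq Fact.out Fact.out).mp
          ((Fact.out : q.Prime).dvd_of_dvd_pow hd))
      exact ⟨hp.toSylow hidx, fun z => by
        change z ∈ ((hp.toSylow hidx : Sylow q K) : Subgroup K) ↔ _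
        rw [IsPGroup.toSylow_coe]; rfl⟩
    obtain ⟨S1, hS1⟩ := hsyl QC inf_le_right hcard
    obtain ⟨S2, hS2⟩ := hsyl Q le_sup_right rfl
    obtain ⟨k, hk⟩ := MulAction.exists_smul_eq K S2 S1
    have hkmem : ∀ z : K, (z : H) ∈ QC → ((k : H)⁻¹ * z * k) ∈ Q := by
      intro z hz
      have hz' : z ∈ (S1 : Subgroup K) := (hS1 z).mpr hz
      rw [← hk, Sylow.coe_subgroup_smul, Subgroup.mem_pointwise_smul_iff_inv_smul_mem] at hz'
      have h := (hS2 _).mp hz'
      rw [← map_inv, MulAut.smul_def, MulAut.conj_apply] at h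
      simpa using h
    obtain ⟨v, hv, q0, hq0, hk0⟩ : ∃ v ∈ W, ∃ q0 ∈ Q, v * q0 = (k : H) := by
      have h : (k : H) ∈ W ⊔ Q := k.2
      rw [← SetLike.mem_coe, Subgroup.normal_mul] at h
      exact Set.mem_mul.mp h
    have hvQ : QC.map (MulAut.conj v⁻¹).toMonoidHom = Q := by
      refine Subgroup.eq_of_le_of_card_ge ?_ (le_of_eq ?_)
      · rintro _ ⟨z, hz, rfl⟩
        have h := hkmem ⟨z, hz.2⟩ hz
        rw [← hk0] at h
        have h' := Q.mul_mem (Q.mul_mem hq0 h) (Q.inv_mem hq0)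
        simpa [mul_assoc] using h'
      · rw [Subgroup.card_map_of_injective (MulAut.conj v⁻¹).injective, hcard]
    have hCA : ∀ c ∈ C, v⁻¹ * c * v ∈ A := by
      intro c hc
      obtain ⟨w0, hw0, a0, ha0, hwa⟩ : ∃ w0 ∈ W, ∃ a0 ∈ A, w0 * a0 = v⁻¹ * c * v := by
        have h : v⁻¹ * c * v ∈ (W : Set H) * (A : Set H) := by
          rw [← Subgroup.normal_mul, hsup]; trivial
        exact Set.mem_mul.mp h
      have hfixed : ∀ y ∈ Q, y * w0 = w0 * y := by
        intro y hy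
        have hy' : a0⁻¹ * y * a0 ∈ Q := (Subgroup.mem_normalizer_iff''.mp (hQn ha0) y).mp hy
        rw [← hvQ] at hy'
        obtain ⟨z, hz, hzy⟩ := hy'
        have h1 : c * z * c⁻¹ ∈ QC :=
          ⟨C.mul_mem (C.mul_mem hc hz.1) (C.inv_mem hc), hKn.conj_mem z hz.2 c⟩
        have h2 : v⁻¹ * (c * z * c⁻¹) * v ∈ Q :=
          hvQ.le ⟨_, h1, by simp⟩
        have h3 : w0 * y * w0⁻¹ ∈ Q := by
          have e : y = a0 * (v⁻¹ * z * v) * a0⁻¹ := by
            rw [show v⁻¹ * z * v = a0⁻¹ * y * a0 by simpa using hzy]; group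
          rw [e, show w0 * (a0 * (v⁻¹ * z * v) * a0⁻¹) * w0⁻¹ =
            (w0 * a0) * (v⁻¹ * z * v) * (w0 * a0)⁻¹ by group, hwa]
          convert h2 using 1
          group
        have h4 : w0 * y * w0⁻¹ * y⁻¹ ∈ W ⊓ Q := by
          refine ⟨?_, Q.mul_mem h3 (Q.inv_mem hy)⟩
          rw [SetLike.mem_coe, show w0 * y * w0⁻¹ * y⁻¹ = w0 * (y * w0⁻¹ * y⁻¹) by group]
          exact W.mul_mem hw0 (‹W.Normal›.conj_mem _ (W.inv_mem hw0) y)
        rw [hWQ, Subgroup.mem_bot, mul_inv_eq_one, mul_inv_eq_iff_eq_mul] at h4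
        exact h4.symm
      rw [← hwa, hCQ w0 hw0 hfixed, one_mul]
      exact ha0
    have hcomm : ∀ u ∈ W, ∀ z ∈ A, u⁻¹ * z * u ∈ A → z * u * z⁻¹ = u := by
      intro u hu z hz h
      have h1 : u⁻¹ * (z * u * z⁻¹) ∈ W ⊓ A := by
        refine ⟨W.mul_mem (W.inv_mem hu) (‹W.Normal›.conj_mem u hu z), ?_⟩
        rw [show u⁻¹ * (z * u * z⁻¹) = u⁻¹ * z * u * z⁻¹ by group]
        exact A.mul_mem h (A.inv_mem hz)
      rw [hWA, Subgroup.mem_bot, inv_mul_eq_one] at h1
      exact h1.symm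
    refine ⟨⟨v, hv⟩, hcomm v hv x hx (hCA x hxC), ?_⟩
    have h1 := hcomm (v⁻¹ * w)⁻¹ (W.inv_mem (W.mul_mem (W.inv_mem hv) w.2)) x' hx'A (by
      have h := hCA _ hx'C
      convert h using 1
      group)
    have h2 := congrArg (·⁻¹) h1
    simp only [inv_inv] at h2
    conv_rhs => rw [← h2]
    group
  choose V hV1 hV2 using key
  let F := {w : W // x * w * x⁻¹ = (w : H)}
  have hWle : Nat.card W ≤ Nat.card (F × F) := by
    let g : W → F × F := fun w =>
      (⟨V w, hV1 w⟩, ⟨⟨a⁻¹ * ((V w : H)⁻¹ * w) * a,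
        by simpa using ‹W.Normal›.conj_mem _ (W.mul_mem (W.inv_mem (V w).2) w.2) a⁻¹⟩, by
          have h := congrArg (fun z => a⁻¹ * z * a) (hV2 w)
          simp only at h ⊢
          refine Eq.trans ?_ h
          group⟩)
    refine Nat.card_le_card_of_injective g fun w w' h => ?_
    have h1 : V w = V w' := congrArg (fun t : F × F => t.1.1) h
    have h2 : a⁻¹ * ((V w : H)⁻¹ * w) * a = a⁻¹ * ((V w' : H)⁻¹ * w') * a :=
      congrArg (fun t : F × F => ((t.2.1 : W) : H)) h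
    rw [h1] at h2
    exact Subtype.ext (mul_left_cancel (mul_left_cancel (mul_right_cancel h2)))
  rw [Nat.card_prod] at hWle
  exact absurd hbound (not_lt.mpr hWle)

end Cfsg.Agent.Lib.Flavell19.Generate
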