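/-
A maximal solvable `⟨P, P^a⟩`: its normal `q`-subgroups centralize the `r`-subgroups it
normalizes, for `r ≠ q`.
-/
import Mathlib.GroupTheory.Nilpotent
import Mathlib.GroupTheory.Solvable
import Cfsg.Agent.Lib.Flavell19.Generate

set_option autoImplicit false

namespace Cfsg.Agent.Lib.Flavell19.Centralize

open scoped commutatorElement Pointwise

universe u

variable {G : Type u} [Group G] [Finite G]

omit [Finite G] in
theorem conj_mem_of {A U : Subgroup G} (h : A ≤ Subgroup.normalizer (U : Set G)) {a : G} (ha : a ∈ A)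
    {u : G} (hu : u ∈ U) : a * u * a⁻¹ ∈ U :=
  (Subgroup.mem_normalizer_iff.mp (h ha) u).mp hu

/-- An element of a normal `q`-subgroup and one of a normal `r`-subgroup commute. -/
theorem commute_of_normal {q r : ℕ} [Fact q.Prime] [Fact r.Prime] (hqr : q ≠ r) {A Q U : Subgroup G}
    (hQA : Q ≤ A) (hQn : A ≤ Subgroup.normalizer (Q : Set G)) (hQ : IsPGroup q Q) (hU : IsPGroup r U)
    (hAU : A ≤ Subgroup.normalizer (U : Set G)) (hUA : U ≤ A) :
    ∀ y ∈ Q, ∀ u ∈ U, y * u = u * y := by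
  intro y hy u hu
  have h1 : y * u * y⁻¹ * u⁻¹ ∈ Q ⊓ U := by
    refine ⟨?_, U.mul_mem (conj_mem_of hAU (hQA hy) hu) (U.inv_mem hu)⟩
    rw [SetLike.mem_coe, show y * u * y⁻¹ * u⁻¹ = y * (u * y⁻¹ * u⁻¹) by group]
    exact Q.mul_mem hy (conj_mem_of hQn (hUA hu) (Q.inv_mem hy))
  rw [(IsPGroup.disjoint_of_ne q r hqr Q U hQ hU).eq_bot, Subgroup.mem_bot, mul_inv_eq_one,
    mul_inv_eq_iff_eq_mul] at h1
  exact h1

/-- Coprime stability: trivial on a layer and its quotient. -/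
theorem commute_of_layer {q r : ℕ} [Fact q.Prime] [Fact r.Prime] (hqr : q ≠ r) {Q M : Subgroup G}
    (hQ : IsPGroup q Q) (hM : IsPGroup r M) (hMc : ∀ y ∈ Q, ∀ m ∈ M, y * m = m * y)
    {y u : G} (hy : y ∈ Q) (hm : u⁻¹ * (y * u * y⁻¹) ∈ M) : y * u = u * y := by
  obtain ⟨n, hn⟩ := hQ ⟨y, hy⟩
  obtain ⟨n', hn'⟩ := hM ⟨_, hm⟩
  set m := u⁻¹ * (y * u * y⁻¹) with hmdef
  have hit : ∀ i : ℕ, y ^ i * u * (y ^ i)⁻¹ = u * m ^ i := by
    intro i
    induction i with
    | zero => simp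
    | succ i ih =>
      have e : y ^ (i + 1) * u * (y ^ (i + 1))⁻¹ = y * (y ^ i * u * (y ^ i)⁻¹) * y⁻¹ := by
        rw [pow_succ']; group
      have hc : y * m ^ i = m ^ i * y := hMc y hy _ (M.pow_mem hm i)
      rw [e, ih, show y * (u * m ^ i) * y⁻¹ = y * u * y⁻¹ * (y * m ^ i * y⁻¹) by group, hc,
        mul_inv_cancel_right, pow_succ', ← mul_assoc u m]
      congr 1
      rw [hmdef]; group
  have hyq : y ^ (q ^ n) = 1 := congrArg Subtype.val hn
  have hmr : m ^ (r ^ n') = 1 := congrArg Subtype.val hn'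
  have h1 := hit (q ^ n)
  rw [hyq] at h1
  have hmq : m ^ (q ^ n) = 1 := mul_left_cancel (a := u) (by simpa using h1.symm)
  have hm1 : m = 1 := by
    have hg : m ^ Nat.gcd (q ^ n) (r ^ n') = 1 := pow_gcd_eq_one.mpr ⟨hmq, hmr⟩
    have hc : Nat.gcd (q ^ n) (r ^ n') = 1 :=
      Nat.Coprime.pow n n' ((Nat.coprime_primes Fact.out Fact.out).mpr hqr)
    rwa [hc, pow_one] at hg
  rw [hmdef, inv_mul_eq_one, eq_mul_inv_iff_mul_eq] at hm1
  exact hm1.symm

/-- The bound on a minimal normal subgroup complemented by `⟨x, x^a⟩`. -/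
theorem fixed_bound {H : Type u} [Group H] [Finite H] [Group.IsSolvable H] {p : ℕ} (hp : p.Prime)
    (hp3 : 3 < p) {W A : Subgroup H} [W.Normal] (hWcomm : ∀ v ∈ W, ∀ w ∈ W, v * w = w * v)
    (hmin : ∀ T : Subgroup H, T.Normal → T ≤ W → T = ⊥ ∨ T = W) (hsup : W ⊔ A = ⊤) (hWne : W ≠ ⊥)
    {r : ℕ} [Fact r.Prime] (hWr : IsPGroup r W) {x a : H} (hxA : x ∈ A) (haA : a ∈ A)
    (hx : orderOf x = p) (hgen : A = Subgroup.zpowers x ⊔ Subgroup.zpowers (a * x * a⁻¹))
    (hnc : ¬ ∀ b ∈ A, ∀ w ∈ W, b * w = w * b) :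
    Nat.card {w : W // x * w * x⁻¹ = (w : H)} * Nat.card {w : W // x * w * x⁻¹ = (w : H)} <
      Nat.card W := by
  letI : CommGroup W := { (inferInstance : Group W) with
    mul_comm := fun v w => Subtype.ext (hWcomm v v.2 w w.2) }
  haveI : Nontrivial W := (Subgroup.nontrivial_iff_ne_bot W).mpr hWne
  haveI : Group.IsSolvable A := inferInstance
  let φ : A →* MulAut W := MulAut.conjNormal.comp A.subtype
  have hφ : ∀ (b : A) (w : W), ((φ b w : W) : H) = b * w * (b : H)⁻¹ := fun b w => rfl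
  have hgenA : Subgroup.normalClosure {(⟨x, hxA⟩ : A)} = ⊤ := by
    rw [eq_top_iff]
    intro z _
    have hle : A ≤ (Subgroup.normalClosure {(⟨x, hxA⟩ : A)}).map A.subtype := by
      refine le_of_eq_of_le hgen (sup_le ?_ ?_)
      · rw [Subgroup.zpowers_le]
        exact ⟨⟨x, hxA⟩, Subgroup.subset_normalClosure rfl, rfl⟩
      · rw [Subgroup.zpowers_le]
        exact ⟨⟨a, haA⟩ * ⟨x, hxA⟩ * (⟨a, haA⟩ : A)⁻¹,
          (Subgroup.normalClosure_normal (s := {(⟨x, hxA⟩ : A)})).conj_mem ⟨x, hxA⟩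
            (Subgroup.subset_normalClosure (Set.mem_singleton _)) ⟨a, haA⟩, rfl⟩
    obtain ⟨z', hz', e⟩ := hle z.2
    rwa [Subtype.ext e] at hz'
  have hirr : ∀ T : Subgroup W, (∀ g, ∀ t ∈ T, φ g t ∈ T) → T = ⊥ ∨ T = ⊤ := by
    intro T hT
    have hn : (T.map W.subtype).Normal := ⟨fun t ht z => by
      obtain ⟨v, hv, b, hb, rfl⟩ : ∃ v ∈ W, ∃ b ∈ A, v * b = z := by
        have h : z ∈ (W : Set H) * (A : Set H) := by rw [← Subgroup.normal_mul, hsup]; trivial
        exact Set.mem_mul.mp h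
      obtain ⟨t, ht, rfl⟩ := ht
      refine ⟨φ ⟨b, hb⟩ t, hT _ t ht, ?_⟩
      rw [Subgroup.coe_subtype, hφ, show v * b * (t : H) * (v * b)⁻¹ =
        v * (b * t * b⁻¹) * v⁻¹ by group,
        hWcomm v hv _ (‹W.Normal›.conj_mem _ t.2 b), mul_inv_cancel_right]⟩
    rcases hmin _ hn (Subgroup.map_subtype_le _) with h | h
    · exact Or.inl ((Subgroup.map_eq_bot_iff_of_injective _ W.subtype_injective).mp h)
    · refine Or.inr (eq_top_iff.mpr fun w _ => ?_)
      obtain ⟨w', hw', e⟩ := (h.symm ▸ w.2 : (w : H) ∈ T.map W.subtype)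
      rwa [Subtype.ext e] at hw'
  have hφx : φ ⟨x, hxA⟩ ≠ 1 := fun h => by
    have hker : φ.ker = ⊤ := top_unique (hgenA ▸ Subgroup.normalClosure_le_normal
      (Set.singleton_subset_iff.mpr (MonoidHom.mem_ker.mpr h)))
    refine hnc fun b hb w hw => ?_
    have h1 : φ ⟨b, hb⟩ = 1 := MonoidHom.mem_ker.mp (hker ▸ Subgroup.mem_top _)
    have h2 : b * w * b⁻¹ = w :=
      congrArg Subtype.val (MulEquiv.congr_fun h1 (⟨w, hw⟩ : W))
    exact mul_inv_eq_iff_eq_mul.mp h2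
  have h := Generate.bound hp hp3 (⟨x, hxA⟩ : A) (by rw [Subgroup.orderOf_mk, hx]) hgenA r hWr φ
    hirr hφx
  have he : Nat.card {w : W // φ ⟨x, hxA⟩ w = w} = Nat.card {w : W // x * w * x⁻¹ = (w : H)} :=
    Nat.card_congr (Equiv.subtypeEquivRight fun w =>
      ⟨fun h => congrArg Subtype.val h, fun h => Subtype.ext h⟩)
  rwa [he] at h

/-- The main property. -/
theorem centralize {p : ℕ} (hp : p.Prime) (hp3 : 3 < p) (x a : G) (hx : orderOf x = p) (A : Subgroup G)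
    (haA : a ∈ A) (hgen : A = Subgroup.zpowers x ⊔ Subgroup.zpowers (a * x * a⁻¹))
    [Group.IsSolvable A]
    (hmax : ∀ B : Subgroup G, A ≤ B → Group.IsSolvable B →
      (∃ b ∈ B, B = Subgroup.zpowers x ⊔ Subgroup.zpowers (b * x * b⁻¹)) → B = A)
    {q r : ℕ} [Fact q.Prime] [Fact r.Prime] (hqr : q ≠ r) (Q : Subgroup G) (hQA : Q ≤ A)
    (hQn : A ≤ Subgroup.normalizer (Q : Set G)) (hQ : IsPGroup q Q) :
    ∀ (n : ℕ) (U : Subgroup G), Nat.card U = n → IsPGroup r U →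
      A ≤ Subgroup.normalizer (U : Set G) → ∀ y ∈ Q, ∀ u ∈ U, y * u = u * y := by
  classical
  intro n
  induction n using Nat.strong_induction_on with
  | _ n ih =>
  intro U hn hU hAU
  by_contra hne
  have hproper : ∀ X : Subgroup G, X < U → A ≤ Subgroup.normalizer (X : Set G) →
      ∀ y ∈ Q, ∀ u ∈ X, y * u = u * y := fun X hX hAX => by
    refine ih (Nat.card X) ?_ X rfl (hU.to_le hX.le) hAX
    rw [← hn]
    refine lt_of_le_of_ne (Subgroup.card_le_of_le hX.le) fun h => hX.ne ?_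
    exact Subgroup.eq_of_le_of_card_ge hX.le h.ge
  let S : Set (Subgroup G) := {X | X < U ∧ A ≤ Subgroup.normalizer (X : Set G) ∧
    U ≤ Subgroup.normalizer (X : Set G)}
  have hUb : U ≠ ⊥ := fun h => hne fun y _ u hu => by
    rw [h, Subgroup.mem_bot] at hu
    rw [hu, one_mul, mul_one]
  have hbotn : ∀ g : G, g ∈ Subgroup.normalizer ((⊥ : Subgroup G) : Set G) := fun g => by
    rw [Subgroup.mem_normalizer_iff]
    intro z
    simp
  obtain ⟨M, ⟨hMU, hAM, hUM⟩, hMmax⟩ := (Set.toFinite S).exists_maximal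
    ⟨⊥, bot_lt_iff_ne_bot.mpr hUb, fun g _ => hbotn g, fun g _ => hbotn g⟩
  have hMc := hproper M hMU hAM
  set H := U ⊔ A with hH
  have hHM : H ≤ Subgroup.normalizer (M : Set G) := sup_le hUM hAM
  have hHU : H ≤ Subgroup.normalizer (U : Set G) := sup_le Subgroup.le_normalizer hAU
  have hUH : U ≤ H := le_sup_left
  have hAH : A ≤ H := le_sup_right
  have hMH : M ≤ H := hMU.le.trans hUH
  haveI : (M.subgroupOf H).Normal := Subgroup.normal_subgroupOf_iff_le_normalizer hMH |>.mpr hHM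
  haveI : (U.subgroupOf H).Normal := Subgroup.normal_subgroupOf_iff_le_normalizer hUH |>.mpr hHU
  haveI : Group.IsSolvable H := by
    haveI : Group.IsNilpotent U := hU.isNilpotent
    haveI : Group.IsSolvable U := inferInstance
    haveI : Group.IsSolvable (U.subgroupOf H) := Group.isSolvable_of_isSolvable_injective
      (f := (Subgroup.subgroupOfEquivOfLe hUH).toMonoidHom) (MulEquiv.injective _)
    haveI : Group.IsSolvable (H ⧸ U.subgroupOf H) := by
      refine Group.isSolvable_of_surjective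
        (f := (QuotientGroup.mk' (U.subgroupOf H)).comp (Subgroup.inclusion hAH)) fun c => ?_
      obtain ⟨h, rfl⟩ := QuotientGroup.mk_surjective c
      have hh : (h : G) ∈ (U ⊔ A : Subgroup G) := h.2
      rw [← SetLike.mem_coe, Subgroup.coe_mul_of_right_le_normalizer_left U A hAU] at hh
      obtain ⟨v, hv, b, hb, hvb⟩ := Set.mem_mul.mp hh
      refine ⟨⟨b, hb⟩, QuotientGroup.eq.mpr ?_⟩
      rw [Subgroup.mem_subgroupOf]
      change b⁻¹ * (h : G) ∈ U
      rw [← hvb, ← mul_assoc]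
      simpa using conj_mem_of hAU (A.inv_mem hb) hv
    exact Group.isSolvable_iff_subgroup_quotient (U.subgroupOf H) |>.mpr ⟨inferInstance, inferInstance⟩
  set f := QuotientGroup.mk' (M.subgroupOf H) with hf
  set W := (U.subgroupOf H).map f with hWdef
  set i : A →* H := Subgroup.inclusion hAH with hi
  set Ab := (f.comp i).range with hAb
  set Qb := (Q.subgroupOf H).map f with hQbdef
  haveI hWn : W.Normal := Subgroup.Normal.map inferInstance f (QuotientGroup.mk'_surjective _)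
  have hfker : ∀ h : H, f h = 1 ↔ (h : G) ∈ M := fun h => by
    rw [hf, QuotientGroup.mk'_apply, QuotientGroup.eq_one_iff, Subgroup.mem_subgroupOf]
  haveI : Group.IsSolvable (H ⧸ M.subgroupOf H) := inferInstance
  -- minimal normal
  have hminW : ∀ T : Subgroup (H ⧸ M.subgroupOf H), T.Normal → T ≤ W → T = ⊥ ∨ T = W := by
    intro T hT hTW
    let X : Subgroup G := (T.comap f).map H.subtype
    have hXn : H ≤ Subgroup.normalizer (X : Set G) :=
      (Subgroup.normal_subgroupOf_iff_le_normalizer (Subgroup.map_subtype_le _)).mp (by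
        rw [Subgroup.subgroupOf, Subgroup.comap_map_eq_self_of_injective H.subtype_injective]
        exact Subgroup.Normal.comap hT f)
    have hXU : X ≤ U := by
      rintro _ ⟨h, hh, rfl⟩
      obtain ⟨v, hv, hvh⟩ := hTW hh
      rw [QuotientGroup.mk'_eq_mk'] at hvh
      obtain ⟨m, hm, rfl⟩ := hvh
      exact U.mul_mem hv (hMU.le hm)
    rcases lt_or_eq_of_le hXU with hlt | heq
    · left
      have hMX : M ≤ X := fun m hm => ⟨⟨m, hMH hm⟩, by
        rw [SetLike.mem_coe, Subgroup.mem_comap, (hfker _).mpr hm]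
        exact T.one_mem, rfl⟩
      have hXM : X ≤ M := hMmax ⟨hlt, hAH.trans hXn, hUH.trans hXn⟩ hMX
      rw [Subgroup.eq_bot_iff_forall]
      intro t ht
      obtain ⟨h, rfl⟩ := QuotientGroup.mk'_surjective _ t
      exact (hfker h).mpr (hXM ⟨h, ht, rfl⟩)
    · right
      refine le_antisymm hTW ?_
      rintro _ ⟨h, hh, rfl⟩
      have h' : (h : G) ∈ X := heq ▸ hh
      obtain ⟨h'', hh'', e⟩ := h'
      rwa [Subtype.ext e] at hh''
  have hWne : W ≠ ⊥ := by
    intro h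
    refine hMU.not_ge fun u hu => ?_
    have hm : f ⟨u, hUH hu⟩ ∈ W := ⟨⟨u, hUH hu⟩, hu, rfl⟩
    rw [h, Subgroup.mem_bot, hfker] at hm
    exact hm
  have hWcomm : ∀ v ∈ W, ∀ w ∈ W, v * w = w * v := by
    have hb : ⁅W, W⁆ = ⊥ := (hminW _ inferInstance (Subgroup.commutator_le_self W)).resolve_right
      (Group.IsSolvable.commutator_lt_of_ne_bot hWne).ne
    intro v hv w hw
    have h := Subgroup.commutator_mem_commutator hv hw
    rw [hb, Subgroup.mem_bot, commutatorElement_eq_one_iff_mul_comm] at h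
    exact h
  have hsup : W ⊔ Ab = ⊤ := by
    rw [eq_top_iff]
    intro z _
    obtain ⟨h, rfl⟩ := QuotientGroup.mk'_surjective _ z
    have hh : (h : G) ∈ (U ⊔ A : Subgroup G) := h.2
    rw [← SetLike.mem_coe, Subgroup.coe_mul_of_right_le_normalizer_left U A hAU] at hh
    obtain ⟨v, hv, b, hb, hvb⟩ := Set.mem_mul.mp hh
    rw [show h = ⟨v, hUH hv⟩ * i ⟨b, hb⟩ from Subtype.ext hvb.symm, map_mul]
    exact Subgroup.mul_mem_sup ⟨_, hv, rfl⟩ ⟨⟨b, hb⟩, rfl⟩
  have hQAb : Qb ≤ Ab := by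
    rintro _ ⟨h, hh, rfl⟩
    exact ⟨⟨h, hQA hh⟩, rfl⟩
  have hQnb : Ab ≤ Subgroup.normalizer (Qb : Set (H ⧸ M.subgroupOf H)) := by
    rintro _ ⟨b, rfl⟩
    have hbQ : i b ∈ Subgroup.normalizer ((Q.subgroupOf H : Subgroup H) : Set H) := by
      rw [Subgroup.mem_normalizer_iff]
      intro h
      exact Subgroup.mem_normalizer_iff.mp (hQn b.2) h
    exact Subgroup.le_normalizer_map f ⟨_, hbQ, rfl⟩
  have hQb : IsPGroup q Qb := (hQ.comap_subtype : IsPGroup q (Q.subgroupOf H)).map f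
  have hWr : IsPGroup r W := (hU.comap_subtype : IsPGroup r (U.subgroupOf H)).map f
  have hmemtop : ∀ z : H ⧸ M.subgroupOf H, ∃ v ∈ W, ∃ b ∈ Ab, v * b = z := fun z => by
    have h : z ∈ (W : Set (H ⧸ M.subgroupOf H)) * (Ab : Set (H ⧸ M.subgroupOf H)) := by
      rw [← Subgroup.normal_mul, hsup]; trivial
    exact Set.mem_mul.mp h
  have hCQ : ∀ w ∈ W, (∀ y ∈ Qb, y * w = w * y) → w = 1 := by
    let T : Subgroup (H ⧸ M.subgroupOf H) :=
      W ⊓ Subgroup.centralizer (Qb : Set (H ⧸ M.subgroupOf H))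
    have hTn : T.Normal := ⟨fun t ht z => by
      obtain ⟨v, hv, b, hb, rfl⟩ := hmemtop z
      have h1 : b * t * b⁻¹ ∈ T := by
        refine ⟨hWn.conj_mem t ht.1 b, Subgroup.mem_centralizer_iff.mpr fun y hy => ?_⟩
        have hy' : b⁻¹ * y * b ∈ Qb := (Subgroup.mem_normalizer_iff''.mp (hQnb hb) y).mp hy
        have h := Subgroup.mem_centralizer_iff.mp ht.2 _ hy'
        calc y * (b * t * b⁻¹) = b * (b⁻¹ * y * b * t) * b⁻¹ := by group
          _ = b * (t * (b⁻¹ * y * b)) * b⁻¹ := by rw [h]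
          _ = b * t * b⁻¹ * y := by group
      rwa [show v * b * t * (v * b)⁻¹ = v * (b * t * b⁻¹) * v⁻¹ by group,
        hWcomm v hv _ h1.1, mul_inv_cancel_right]⟩
    have hT : T = ⊥ := (hminW T hTn inf_le_left).resolve_right fun h => hne fun y hy u hu => by
      have hm : f ⟨u, hUH hu⟩ ∈ T := h ▸ ⟨⟨u, hUH hu⟩, hu, rfl⟩
      have hc := Subgroup.mem_centralizer_iff.mp hm.2 (f ⟨y, hAH (hQA hy)⟩)
        ⟨⟨y, hAH (hQA hy)⟩, hy, rfl⟩
      refine commute_of_layer hqr hQ (hU.to_le hMU.le) hMc hy ?_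
      have h' : f ((⟨u, hUH hu⟩ : H)⁻¹ * (⟨y, hAH (hQA hy)⟩ * ⟨u, hUH hu⟩ *
          (⟨y, hAH (hQA hy)⟩ : H)⁻¹)) = 1 := by
        rw [map_mul, map_mul, map_mul, map_inv, map_inv, hc, mul_inv_cancel_right, inv_mul_cancel]
      exact (hfker _).mp h'
    intro w hw hc
    have hm : w ∈ T := ⟨hw, Subgroup.mem_centralizer_iff.mpr hc⟩
    rw [hT, Subgroup.mem_bot] at hm
    exact hm
  have hWQ : W ≤ Ab → False := fun hWA => hWne (by
    rw [Subgroup.eq_bot_iff_forall]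
    intro w hw
    exact hCQ w hw fun y hy =>
      commute_of_normal hqr hQAb hQnb hQb hWr (fun b _ => by
        rw [Subgroup.normalizer_eq_top]; trivial) hWA y hy w hw)
  have hWA : W ⊓ Ab = ⊥ := by
    refine (hminW _ ⟨fun t ht z => ?_⟩ inf_le_left).resolve_right fun h => hWQ (h ▸ inf_le_right)
    obtain ⟨v, hv, b, hb, rfl⟩ := hmemtop z
    have h1 : b * t * b⁻¹ ∈ W ⊓ Ab :=
      ⟨hWn.conj_mem t ht.1 b, Ab.mul_mem (Ab.mul_mem hb ht.2) (Ab.inv_mem hb)⟩
    rwa [show v * b * t * (v * b)⁻¹ = v * (b * t * b⁻¹) * v⁻¹ by group,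
      hWcomm v hv _ h1.1, mul_inv_cancel_right]
  have hxA : x ∈ A := hgen ▸ Subgroup.mem_sup_left (Subgroup.mem_zpowers x)
  set xb := f (i ⟨x, hxA⟩) with hxb
  set ab := f (i ⟨a, haA⟩) with hab
  have hgenb : Ab = Subgroup.zpowers xb ⊔ Subgroup.zpowers (ab * xb * ab⁻¹) := by
    have htop : (⊤ : Subgroup A) = Subgroup.zpowers (⟨x, hxA⟩ : A) ⊔
        Subgroup.zpowers ((⟨a, haA⟩ : A) * ⟨x, hxA⟩ * (⟨a, haA⟩ : A)⁻¹) := by
      apply Subgroup.map_injective A.subtype_injective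
      rw [← MonoidHom.range_eq_map, Subgroup.range_subtype, Subgroup.map_sup,
        MonoidHom.map_zpowers, MonoidHom.map_zpowers]
      exact hgen
    rw [hAb, MonoidHom.range_eq_map, htop, Subgroup.map_sup, MonoidHom.map_zpowers,
      MonoidHom.map_zpowers, map_mul, map_mul, map_inv]
    rfl
  have hxb1 : xb ≠ 1 := by
    intro h
    have hA1 : Ab = ⊥ := by
      rw [hgenb, h]
      simp
    refine hWne ((Subgroup.eq_bot_iff_forall _).mpr fun w hw => hCQ w hw fun y hy => ?_)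
    have hy1 := hQAb hy
    rw [hA1, Subgroup.mem_bot] at hy1
    rw [hy1, one_mul, mul_one]
  have hxbA : xb ∈ Ab := ⟨⟨x, hxA⟩, rfl⟩
  have habA : ab ∈ Ab := ⟨⟨a, haA⟩, rfl⟩
  have hxbord : orderOf xb = p := by
    haveI := Fact.mk hp
    refine orderOf_eq_prime ?_ hxb1
    rw [hxb, ← map_pow, ← map_pow, show (⟨x, hxA⟩ : A) ^ p = 1 from
      Subtype.ext (by rw [Subgroup.coe_pow, ← hx, pow_orderOf_eq_one]; rfl), map_one, map_one]
  have hbound := fixed_bound hp hp3 hWcomm hminW hsup hWne hWr hxbA habA hxbord hgenb fun h =>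
    hWne ((Subgroup.eq_bot_iff_forall _).mpr fun w hw =>
      hCQ w hw fun y hy => h y (hQAb hy) w hw)
  obtain ⟨w, hwW, hwgen⟩ := Generate.exists_generating W Ab Qb hWcomm hminW hWA hsup hQAb hQnb hqr
    hQb hWr hCQ hxbA habA hgenb hbound
  obtain ⟨wH, hwU, rfl⟩ := hwW
  set b : H := wH * i ⟨a, haA⟩ with hb
  set B : Subgroup G := Subgroup.zpowers x ⊔ Subgroup.zpowers ((b : G) * x * (b : G)⁻¹) with hB
  have hBH : B ≤ H := by
    rw [hB, sup_le_iff, Subgroup.zpowers_le, Subgroup.zpowers_le]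
    exact ⟨hAH hxA, H.mul_mem (H.mul_mem b.2 (hAH hxA)) (H.inv_mem b.2)⟩
  have hBM : ∀ h : H, ∃ c ∈ B, ∃ m ∈ M, c * m = (h : G) := by
    intro h
    have hmap : (B.subgroupOf H).map f = ⊤ := by
      refine top_unique (le_of_eq_of_le hwgen.symm (sup_le ?_ ?_))
      · rw [Subgroup.zpowers_le]
        exact ⟨i ⟨x, hxA⟩, Subgroup.mem_sup_left (Subgroup.mem_zpowers x), rfl⟩
      · rw [Subgroup.zpowers_le]
        refine ⟨b * i ⟨x, hxA⟩ * b⁻¹, ?_, ?_⟩
        · exact Subgroup.mem_sup_right (Subgroup.mem_zpowers _)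
        · rw [map_mul, map_mul, map_inv, hb, map_mul]
    have hh : f h ∈ (B.subgroupOf H).map f := hmap ▸ Subgroup.mem_top _
    obtain ⟨c, hc, hch⟩ := hh
    rw [QuotientGroup.mk'_eq_mk'] at hch
    obtain ⟨m, hm, rfl⟩ := hch
    exact ⟨c, hc, m, hm, rfl⟩
  have hUB : U ≤ B := by
    by_contra hnot
    set X : Subgroup G := B ⊓ U with hX
    haveI : Group.IsNilpotent U := hU.isNilpotent
    obtain ⟨C, hC, hXC⟩ : ∃ C : Subgroup U, IsCoatom C ∧ X.subgroupOf U ≤ C := by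
      rcases IsCoatomic.eq_top_or_exists_le_coatom (X.subgroupOf U) with h | h
      · exact absurd ((Subgroup.subgroupOf_eq_top.mp h).trans inf_le_left) hnot
      · exact h
    haveI hCn : C.Normal := Subgroup.NormalizerCondition.normal_of_coatom C
      Group.normalizerCondition_of_isNilpotent hC
    let Y : Subgroup G := Subgroup.closure {z | ∃ u ∈ U, ∃ w ∈ X, u * w * u⁻¹ = z}
    have hYC : Y ≤ C.map U.subtype := by
      rw [Subgroup.closure_le]
      rintro _ ⟨u, hu, w, hw, rfl⟩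
      exact ⟨⟨u, hu⟩ * ⟨w, hw.2⟩ * (⟨u, hu⟩ : U)⁻¹,
        hCn.conj_mem _ (hXC (Subgroup.mem_subgroupOf.mpr hw)) _, rfl⟩
    have hYU : Y < U := by
      refine lt_of_le_of_ne (hYC.trans (Subgroup.map_subtype_le _)) fun h => hC.1 ?_
      rw [eq_top_iff]
      intro u _
      obtain ⟨u', hu', e⟩ := hYC (h.symm ▸ u.2 : (u : G) ∈ Y)
      rwa [Subtype.ext e] at hu'
    have hXY : X ≤ Y := fun w hw => Subgroup.subset_closure ⟨1, U.one_mem, w, hw, by simp⟩
    have hYn : ∀ h ∈ H, ∀ z ∈ Y, h * z * h⁻¹ ∈ Y := by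
      intro h hh z hz
      induction hz using Subgroup.closure_induction with
      | mem z hz =>
        obtain ⟨u, hu, w, hw, rfl⟩ := hz
        obtain ⟨c, hc, m, hm, hcm⟩ := hBM ⟨h, hh⟩
        refine Subgroup.subset_closure ⟨c * (m * u) * c⁻¹,
          conj_mem_of hHU (hBH hc) (U.mul_mem (hMU.le hm) hu), c * w * c⁻¹,
          ⟨B.mul_mem (B.mul_mem hc hw.1) (B.inv_mem hc), conj_mem_of hHU (hBH hc) hw.2⟩, ?_⟩
        rw [show h = c * m from hcm.symm]
        group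
      | one => simp
      | mul z z' _ _ h1 h2 =>
        have := Y.mul_mem h1 h2
        rwa [show h * z * h⁻¹ * (h * z' * h⁻¹) = h * (z * z') * h⁻¹ by group] at this
      | inv z _ h1 =>
        have := Y.inv_mem h1
        rwa [show (h * z * h⁻¹)⁻¹ = h * z⁻¹ * h⁻¹ by group] at this
    have hYc := hproper Y hYU fun g hg => by
      rw [Subgroup.mem_normalizer_iff]
      refine fun z => ⟨hYn g (hAH hg) z, fun hz => ?_⟩
      have h := hYn g⁻¹ (H.inv_mem (hAH hg)) _ hz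
      simpa [mul_assoc] using h
    refine hne fun y hy u hu => ?_
    obtain ⟨c, hc, m, hm, hcm⟩ := hBM ⟨u, hUH hu⟩
    have hcU : c ∈ U := by
      rw [eq_mul_inv_of_mul_eq hcm]
      exact U.mul_mem hu (U.inv_mem (hMU.le hm))
    have h1 := hYc y hy c (hXY ⟨hc, hcU⟩)
    have h2 := hMc y hy m hm
    rw [show u = c * m from hcm.symm, ← mul_assoc, h1, mul_assoc, h2, ← mul_assoc]
  have hBeq : B = H := le_antisymm hBH fun h hh => by
    obtain ⟨c, hc, m, hm, hcm⟩ := hBM ⟨h, hh⟩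
    rw [show h = c * m from hcm.symm]
    exact B.mul_mem hc (hUB (hMU.le hm))
  have hHA : H = A := by
    rw [← hBeq]
    exact hmax B (by rw [hBeq]; exact hAH) (by rw [hBeq]; infer_instance)
      ⟨b, by rw [hBeq]; exact b.2, rfl⟩
  exact hne (commute_of_normal hqr hQA hQn hQ hU hAU (hHA ▸ hUH))

end Cfsg.Agent.Lib.Flavell19.Centralize
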