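/-
`F(A)V` is nilpotent when the `q`-parts of `F(A)` centralize the `r`-parts of `V`, `q ≠ r`.
-/
import Mathlib.GroupTheory.Nilpotent
import Cfsg.Agent.Lib.Cores.Basic

set_option autoImplicit false

namespace Cfsg.Agent.Lib.Flavell19.FittingJoin

open Cfsg Cfsg.Agent.Lib

variable {G : Type*} [Group G] [Finite G]

omit [Finite G] in
theorem le_normalizer_map_subtype (V : Subgroup G) {K : Subgroup V} [K.Characteristic] {A : Subgroup G}
    (hAV : A ≤ Subgroup.normalizer (V : Set G)) :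
    A ≤ Subgroup.normalizer ((K.map V.subtype : Subgroup G) : Set G) := by
  intro a ha
  rw [Subgroup.mem_normalizer_iff]
  intro z
  have hconj : ∀ b ∈ A, ∀ w : V, w ∈ K → b * (w : G) * b⁻¹ ∈ K.map V.subtype := by
    intro b hb w hw
    let e : V ≃* V :=
      { toFun := fun v => ⟨b * v * b⁻¹, (Subgroup.mem_normalizer_iff.mp (hAV hb) v).mp v.2⟩
        invFun := fun v => ⟨b⁻¹ * v * b,
          (Subgroup.mem_normalizer_iff''.mp (hAV hb) v).mp v.2⟩
        left_inv := fun v => Subtype.ext (by simp [mul_assoc])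
        right_inv := fun v => Subtype.ext (by simp [mul_assoc])
        map_mul' := fun v v' => Subtype.ext (by simp [mul_assoc]) }
    have h := (Subgroup.characteristic_iff_map_eq.mp ‹K.Characteristic› e).le ⟨w, hw, rfl⟩
    exact ⟨e w, h, rfl⟩
  constructor
  · rintro ⟨w, hw, rfl⟩
    exact hconj a ha w hw
  · rintro ⟨w, hw, e⟩
    have h := hconj a⁻¹ (A.inv_mem ha) w hw
    rw [← Subgroup.coe_subtype, e] at h
    simpa [mul_assoc] using h

/-- `O_p` is characteristic. -/
theorem pCore_characteristic {H : Type*} [Group H] (p : ℕ) : (pCore p H).Characteristic :=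
  Subgroup.characteristic_iff_map_eq.mpr fun φ => Cores.map_pCore_equiv φ

theorem isNilpotent_sup (A V : Subgroup G) (hV : Group.IsNilpotent V)
    (hAV : A ≤ Subgroup.normalizer (V : Set G))
    (hcen : ∀ q r : ℕ, q.Prime → r.Prime → q ≠ r → ∀ Q U : Subgroup G, Q ≤ A →
      A ≤ Subgroup.normalizer (Q : Set G) → IsPGroup q Q → IsPGroup r U →
      A ≤ Subgroup.normalizer (U : Set G) → ∀ y ∈ Q, ∀ u ∈ U, y * u = u * y) :
    Group.IsNilpotent ↥((fittingSubgroup A).map A.subtype ⊔ V) := by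
  classical
  let F : Nat.Primes → Subgroup G := fun q => (pCore (q : ℕ) A).map A.subtype
  let W : Nat.Primes → Subgroup G := fun q => (pCore (q : ℕ) V).map V.subtype
  have hFA : ∀ q, F q ≤ A := fun q => Subgroup.map_subtype_le _
  have hWV : ∀ q, W q ≤ V := fun q => Subgroup.map_subtype_le _
  have hFp : ∀ q : Nat.Primes, IsPGroup (q : ℕ) (F q) := fun q => (Cores.pCore_isPGroup _).map _
  have hWp : ∀ q : Nat.Primes, IsPGroup (q : ℕ) (W q) := fun q => (Cores.pCore_isPGroup _).map _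
  have hFn : ∀ q, A ≤ Subgroup.normalizer (F q : Set G) := fun q => by
    haveI := pCore_characteristic (H := A) (q : ℕ)
    exact le_normalizer_map_subtype A Subgroup.le_normalizer
  have hWn : ∀ q, A ≤ Subgroup.normalizer (W q : Set G) := fun q => by
    haveI := pCore_characteristic (H := V) (q : ℕ)
    exact le_normalizer_map_subtype V hAV
  have hWnV : ∀ q, V ≤ Subgroup.normalizer (W q : Set G) := fun q => by
    haveI := pCore_characteristic (H := V) (q : ℕ)
    exact le_normalizer_map_subtype V Subgroup.le_normalizer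
  let S : Nat.Primes → Subgroup G := fun q => F q ⊔ W q
  have hSp : ∀ q : Nat.Primes, IsPGroup (q : ℕ) (S q) := fun q =>
    (hFp q).to_sup_of_normal_right' (hWp q) ((hFA q).trans (hWn q))
  have hpair : ∀ (X : Subgroup G) (q r : Nat.Primes) (K L : Subgroup G), q ≠ r →
      IsPGroup (q : ℕ) K → IsPGroup (r : ℕ) L → K ≤ X → L ≤ X →
      X ≤ Subgroup.normalizer (K : Set G) → X ≤ Subgroup.normalizer (L : Set G) →
      ∀ y ∈ K, ∀ u ∈ L, y * u = u * y := by
    intro X q r K L hqr hK hL hKX hLX hKn hLn y hy u hu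
    haveI : Fact (q : ℕ).Prime := ⟨q.2⟩
    haveI : Fact (r : ℕ).Prime := ⟨r.2⟩
    have h1 : y * u * y⁻¹ * u⁻¹ ∈ K ⊓ L := by
      refine ⟨?_, L.mul_mem ((Subgroup.mem_normalizer_iff.mp (hLn (hKX hy)) u).mp hu) (L.inv_mem hu)⟩
      rw [SetLike.mem_coe, show y * u * y⁻¹ * u⁻¹ = y * (u * y⁻¹ * u⁻¹) by group]
      exact K.mul_mem hy ((Subgroup.mem_normalizer_iff.mp (hKn (hLX hu)) _).mp (K.inv_mem hy))
    rw [(IsPGroup.disjoint_of_ne (q : ℕ) (r : ℕ) (fun h => hqr (Subtype.ext h)) K L hK hL).eq_bot,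
      Subgroup.mem_bot, mul_inv_eq_one, mul_inv_eq_iff_eq_mul] at h1
    exact h1
  have hcomm : ∀ q r, q ≠ r → S q ≤ Subgroup.centralizer (S r : Set G) := by
    intro q r hqr
    have hne : ∀ s t : Nat.Primes, s ≠ t → ((s : ℕ) ≠ (t : ℕ)) := fun s t h e => h (Subtype.ext e)
    have hcF : ∀ s t : Nat.Primes, s ≠ t → ∀ y ∈ F s, ∀ u ∈ W t, y * u = u * y := fun s t hst =>
      hcen s t s.2 t.2 (hne s t hst) (F s) (W t) (hFA s) (hFn s) (hFp s) (hWp t) (hWn t)
    have hh : S r ≤ Subgroup.centralizer (F q : Set G) ⊓ Subgroup.centralizer (W q : Set G) := by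
      refine sup_le (le_inf ?_ ?_) (le_inf ?_ ?_) <;> intro u hu <;>
        refine Subgroup.mem_centralizer_iff.mpr fun y hy => ?_
      · exact hpair A q r _ _ hqr (hFp q) (hFp r) (hFA q) (hFA r) (hFn q) (hFn r) y hy u hu
      · exact (hcF r q hqr.symm u hu y hy).symm
      · exact hcF q r hqr y hy u hu
      · exact hpair V q r _ _ hqr (hWp q) (hWp r) (hWV q) (hWV r) (hWnV q) (hWnV r) y hy u hu
    exact sup_le (Subgroup.le_centralizer_iff.mp (hh.trans inf_le_left))
      (Subgroup.le_centralizer_iff.mp (hh.trans inf_le_right))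
  set K := ⨆ q, S q with hK
  refine Cores.isNilpotent_of_le (K := K) (sup_le ?_ ?_) ?_
  · rw [Cores.fittingSubgroup_eq_iSup_pCore, Subgroup.map_iSup]
    exact iSup_mono fun q => le_sup_left
  · haveI := hV
    have hVtop : (⊤ : Subgroup V) ≤ ⨆ q : Nat.Primes, pCore (q : ℕ) V :=
      Cores.le_iSup_pCore (Group.isNilpotent_top.2 hV)
    intro v hv
    have h := Subgroup.mem_map_of_mem V.subtype (hVtop (Subgroup.mem_top (⟨v, hv⟩ : V)))
    rw [Subgroup.map_iSup] at h
    exact (iSup_mono fun q => le_sup_right : (⨆ q, W q) ≤ K) h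
  have hSn : ∀ q, ((S q).subgroupOf K).Normal := fun q => by
    refine (Subgroup.normal_subgroupOf_iff_le_normalizer (le_iSup S q)).mpr (iSup_le fun r => ?_)
    rcases eq_or_ne r q with rfl | h
    · exact Subgroup.le_normalizer
    · exact (hcomm r q h).trans (Subgroup.centralizer_le_normalizer _)
  have htop : (⨆ q : Nat.Primes, pCore (q : ℕ) K) = ⊤ := by
    have hle : K ≤ (⨆ q : Nat.Primes, pCore (q : ℕ) K).map K.subtype := by
      refine iSup_le fun q y hy => ?_
      haveI := hSn q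
      exact ⟨⟨y, le_iSup S q hy⟩, (le_iSup_of_le q (Cores.le_pCore (hSp q).comap_subtype) :
        (S q).subgroupOf K ≤ ⨆ q : Nat.Primes, pCore (q : ℕ) K) hy, rfl⟩
    rw [eq_top_iff]
    intro z _
    obtain ⟨z', hz', e⟩ := hle z.2
    rwa [Subtype.ext e] at hz'
  have h := Cores.iSup_pCore_isNilpotent (G := K)
  rw [htop] at h
  exact Group.isNilpotent_top.1 h

end Cfsg.Agent.Lib.Flavell19.FittingJoin
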