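/-
An operator normalizing a group with nondegenerate commutator pairing modulo scalars: if it has
few orbits on the quotient then its fixed space has less than half the dimension.
-/
import Cfsg.Agent.Lib.FpfHeight.Extraspecial
import Cfsg.Agent.Lib.Flavell19.RepBasics

set_option autoImplicit false

namespace Cfsg.Agent.Lib.Flavell19.Symplectic

open Module Cfsg.Agent.Lib.FpfHeight.Extraspecial Cfsg.Agent.Lib.Flavell19.RepBasics

variable {k : Type*} [Field k] [IsAlgClosed k] {Q : Type*} [Group Q] [Finite Q] {Z : Subgroup Q}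
  [Z.Normal] {μ : Z →* k}

/-- The irreducible case. -/
theorem irred_bound {W : Type*} [AddCommGroup W] [Module k W] [FiniteDimensional k W] [Nontrivial W]
    (S : Setup Z 1 μ 1) (β : MulAut Q) (hβ : ∀ z ∈ Z, β z = z) (βq : Equiv.Perm (Q ⧸ Z))
    (hβq : ∀ y : Q, βq (y : Q ⧸ Z) = ((β y : Q) : Q ⧸ Z)) (reps : Finset (Q ⧸ Z))
    (hreps : ∀ c, ∃ i : ℕ, (βq ^ i) c ∈ reps) (horb : 4 * reps.card ≤ Nat.card (Q ⧸ Z))
    (σ : Q →* Module.End k W) (hσ : IsScalar μ σ) (X : Module.End k W) (hX : Function.Injective X)
    (hXσ : ∀ y, X * σ y = σ (β y) * X)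
    (hirr : ∀ U : Submodule k W, (∀ y, ∀ w ∈ U, σ y w ∈ U) → (∀ w ∈ U, X w ∈ U) → U = ⊥ ∨ U = ⊤) :
    2 * finrank k (LinearMap.ker (X - 1)) < finrank k W := by
  classical
  haveI := Fintype.ofFinite (Q ⧸ Z)
  obtain ⟨U, ⟨hUinv, hUne⟩, hUmin⟩ := exists_minimal_of_wellFoundedLT
    (fun U : Submodule k W => (∀ y, ∀ w ∈ U, σ y w ∈ U) ∧ U ≠ ⊥)
    ⟨⊤, fun _ _ _ => Submodule.mem_top, top_ne_bot⟩
  haveI : Nontrivial U := Submodule.nontrivial_iff_ne_bot.mpr hUne
  set σU := subHom σ U hUinv
  have hσU : IsScalar μ σU := fun r => LinearMap.ext fun u => Subtype.ext (by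
    rw [subHom_apply, hσ]; rfl)
  have hirrU : IsIrred σU := by
    intro U' hU'
    rcases eq_or_ne U' ⊥ with h | h
    · exact Or.inl h
    refine Or.inr ?_
    have hle := hUmin (y := U'.map U.subtype) ⟨fun y w hw => by
        obtain ⟨u, hu, rfl⟩ := hw
        exact ⟨σU y u, hU' y u hu, rfl⟩,
      fun h0 => h (Submodule.map_injective_of_injective U.subtype_injective
        (h0.trans (Submodule.map_bot _).symm))⟩ (Submodule.map_subtype_le U U')
    rw [eq_top_iff]
    intro u _
    obtain ⟨w, hw, hwu⟩ := hle u.2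
    rwa [Subtype.ext hwu] at hw
  have hσβ : IsScalar μ (σU.comp β.toMonoidHom) := fun r => by
    have h := hσU r
    rw [← hβ r r.2] at h
    exact h
  obtain ⟨T, hT0, hT⟩ := S.exists_intertwiner hσU hσβ
  have hTinj : Function.Injective T := by
    rw [← LinearMap.ker_eq_bot]
    refine (hirrU _ fun y w hw => ?_).resolve_right fun h => hT0 (LinearMap.ker_eq_top.mp h)
    rw [LinearMap.mem_ker] at hw ⊢
    have := LinearMap.congr_fun (hT y) w
    simp only [LinearMap.comp_apply] at this
    rw [← this, hw, map_zero]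
  let Te := LinearEquiv.ofBijective T ⟨hTinj, LinearMap.surjective_of_injective hTinj⟩
  have hTy : ∀ y (u : U), T (σU y u) = σU (β y) (T u) := fun y u =>
    (LinearMap.congr_fun (hT y) u).symm
  let H : Submodule k (U →ₗ[k] W) :=
    { carrier := {f | ∀ y u, f (σU y u) = σ y (f u)}
      add_mem' := fun {f g} hf hg y u => by
        simp only [LinearMap.add_apply, hf y u, hg y u, map_add]
      zero_mem' := fun y u => by simp
      smul_mem' := fun t f hf y u => by
        simp only [LinearMap.smul_apply, hf y u, map_smul] }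
  haveI : Nontrivial H := ⟨⟨⟨U.subtype, fun y u => rfl⟩, 0, fun h => by
    obtain ⟨u, hu⟩ := exists_ne (0 : U)
    have h' := LinearMap.congr_fun (congrArg Subtype.val h) u
    exact hu (Subtype.ext (by simpa using h'))⟩⟩
  let L : Module.End k H :=
    { toFun := fun f => ⟨(X.comp (f : U →ₗ[k] W)).comp Te.symm.toLinearMap, fun y u => by
        obtain ⟨u', rfl⟩ : ∃ u', T u' = u := ⟨Te.symm u, Te.apply_symm_apply u⟩
        obtain ⟨y', rfl⟩ := β.surjective y
        rw [← hTy]
        simp only [LinearMap.comp_apply, LinearEquiv.coe_coe]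
        rw [show Te.symm (T (σU y' u')) = σU y' u' from Te.symm_apply_apply _,
          show Te.symm (T u') = u' from Te.symm_apply_apply _, f.2 y' u']
        exact LinearMap.congr_fun (hXσ y') _⟩
      map_add' := fun f g => by
        refine Subtype.ext (LinearMap.ext fun u => ?_)
        simp
      map_smul' := fun t f => by
        refine Subtype.ext (LinearMap.ext fun u => ?_)
        simp }
  obtain ⟨c, hc⟩ := Module.End.exists_eigenvalue L
  obtain ⟨f, hf⟩ := hc.exists_hasEigenvector
  have hfc : ∀ u, X ((f : U →ₗ[k] W) u) = c • (f : U →ₗ[k] W) (T u) := by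
    intro u
    have h := LinearMap.congr_fun
      (congrArg Subtype.val (Module.End.mem_eigenspace_iff.mp hf.1)) (T u)
    simpa [L, show Te.symm (T u) = u from Te.symm_apply_apply u] using h
  have hfinj : Function.Injective (f : U →ₗ[k] W) := by
    rw [← LinearMap.ker_eq_bot]
    refine (hirrU _ fun y w hw => ?_).resolve_right fun h =>
      hf.2 (Subtype.ext (LinearMap.ker_eq_top.mp h))
    rw [LinearMap.mem_ker] at hw ⊢
    rw [f.2 y w, hw, map_zero]
  have hrange : LinearMap.range (f : U →ₗ[k] W) = ⊤ := by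
    refine (hirr _ ?_ ?_).resolve_left fun h =>
      hf.2 (Subtype.ext (LinearMap.range_eq_bot.mp h))
    · rintro y _ ⟨u, rfl⟩
      exact ⟨σU y u, f.2 y u⟩
    · rintro _ ⟨u, rfl⟩
      exact ⟨c • T u, by rw [map_smul, hfc]⟩
  have hirrW : IsIrred σ := by
    intro W' hW'
    rcases hirrU (W'.comap (f : U →ₗ[k] W)) (fun y u hu => by
      rw [Submodule.mem_comap] at hu ⊢
      rw [f.2 y u]
      exact hW' y _ hu) with h | h
    · left
      rw [Submodule.eq_bot_iff]
      intro w hw
      obtain ⟨u, rfl⟩ : w ∈ LinearMap.range (f : U →ₗ[k] W) := hrange ▸ Submodule.mem_top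
      have : u ∈ W'.comap (f : U →ₗ[k] W) := hw
      rw [h, Submodule.mem_bot] at this
      rw [this, map_zero]
    · right
      rw [eq_top_iff]
      intro w _
      obtain ⟨u, rfl⟩ : w ∈ LinearMap.range (f : U →ₗ[k] W) := hrange ▸ Submodule.mem_top
      have : u ∈ W'.comap (f : U →ₗ[k] W) := h ▸ Submodule.mem_top
      exact this
  let eqv := LinearEquiv.ofBijective (combo Z σ)
    ⟨S.combo_injective hσ, S.combo_surjective hσ hirrW⟩
  have hcard : Nat.card (Q ⧸ Z) = finrank k W * finrank k W := by
    rw [Nat.card_eq_fintype_card, ← Module.finrank_linearMap k k W W, ← eqv.finrank_eq,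
      Module.finrank_pi]
  let C : Submodule k (Module.End k W) :=
    LinearMap.ker (LinearMap.mulLeft k X - LinearMap.mulRight k X)
  have hmemC : ∀ Y, Y ∈ C ↔ X * Y = Y * X := fun Y => by simp [C, sub_eq_zero]
  have hupper : finrank k C ≤ reps.card := by
    let g : C →ₗ[k] (reps → k) :=
      { toFun := fun Y c => eqv.symm (Y : Module.End k W) c
        map_add' := fun Y Y' => funext fun c => by simp
        map_smul' := fun t Y => funext fun c => by simp }
    have hg : Function.Injective g := by
      refine (injective_iff_map_eq_zero g).mpr fun Y hY => ?_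
      set a := eqv.symm (Y : Module.End k W) with ha
      have hYa : (Y : Module.End k W) = ∑ c, a c • σ c.out := (eqv.apply_symm_apply _).symm
      have hcomm : ∀ c, ∃ t : k, t ≠ 0 ∧ σ (β c.out) = t • σ (βq c).out := by
        intro c
        have h := S.rho_eq_smul hσ (β c.out)
        rwa [← hβq, QuotientGroup.out_eq'] at h
      choose t ht ht' using hcomm
      set b : Q ⧸ Z → k := fun c => a (βq.symm c) * t (βq.symm c)
      have heq : combo Z σ b * X = combo Z σ a * X := by
        have h1 : X * (Y : Module.End k W) = (Y : Module.End k W) * X := (hmemC _).mp Y.2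
        rw [hYa] at h1
        rw [combo_apply, combo_apply, ← h1, Finset.mul_sum, Finset.sum_mul]
        refine (Fintype.sum_bijective βq βq.bijective _ _ fun c => ?_).symm
        rw [mul_smul_comm, hXσ, ht', smul_mul_assoc, smul_mul_assoc, smul_smul]
        simp [b]
      have hab : b = a := by
        refine S.combo_injective hσ (LinearMap.ext fun w => ?_)
        obtain ⟨v, rfl⟩ := LinearMap.surjective_of_injective hX w
        exact LinearMap.congr_fun heq v
      have hrel : ∀ c, a (βq c) = a c * t c := fun c => by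
        conv_lhs => rw [← hab]
        simp [b]
      have hback : ∀ (i : ℕ) (c : Q ⧸ Z), (βq ^ i) c ∈ reps → a c = 0 := by
        intro i
        induction i with
        | zero => exact fun c h => congrFun hY ⟨c, h⟩
        | succ i ih =>
          intro c h
          rw [pow_succ, Equiv.Perm.mul_apply] at h
          have := ih _ h
          rw [hrel] at this
          exact (mul_eq_zero.mp this).resolve_right (ht c)
      have : a = 0 := funext fun c => (hreps c).elim fun i hi => hback i c hi
      refine Subtype.ext ?_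
      rw [hYa, this]
      simp
    have := LinearMap.finrank_le_finrank_of_injective hg
    simpa using this
  set K := LinearMap.ker (X - 1) with hK
  set I := LinearMap.range (X - 1) with hI
  have hdimI : finrank k (W ⧸ I) = finrank k K := by
    have h1 := I.finrank_quotient_add_finrank
    have h2 : finrank k I + finrank k K = finrank k W := (X - 1).finrank_range_add_finrank_ker
    omega
  by_cases hX1 : X = 1
  · exfalso
    have hC : C = ⊤ := eq_top_iff.mpr fun Y _ => (hmemC Y).mpr (by rw [hX1, one_mul, mul_one])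
    rw [hC, finrank_top, Module.finrank_linearMap, ← hcard] at hupper
    have : 0 < Nat.card (Q ⧸ Z) := Nat.card_pos
    omega
  let Ψ : ((W ⧸ I) →ₗ[k] K) × k →ₗ[k] Module.End k W :=
    LinearMap.coprod
      ((LinearMap.llcomp k W K W K.subtype).comp (LinearMap.lcomp k K I.mkQ))
      (LinearMap.toSpanSingleton k (Module.End k W) 1)
  have hΨ : ∀ (ψ : (W ⧸ I) →ₗ[k] K) (t : k) (w : W),
      Ψ (ψ, t) w = (ψ (Submodule.Quotient.mk w) : W) + t • w := fun ψ t w => rfl
  have hXK : ∀ v : K, X (v : W) = v := fun v => by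
    have h := LinearMap.mem_ker.mp v.2
    rwa [LinearMap.sub_apply, Module.End.one_apply, sub_eq_zero] at h
  have hXI : ∀ w, (Submodule.Quotient.mk (X w) : W ⧸ I) = Submodule.Quotient.mk w := fun w =>
    (Submodule.Quotient.eq I).mpr ⟨w, rfl⟩
  have hΨC : ∀ z, Ψ z ∈ C := by
    rintro ⟨ψ, t⟩
    rw [hmemC]
    refine LinearMap.ext fun w => ?_
    rw [Module.End.mul_apply, Module.End.mul_apply, hΨ, hΨ, map_add, map_smul, hXK, hXI]
  have hKne : ∃ w, X w ≠ w := by
    by_contra h
    push_neg at h
    exact hX1 (LinearMap.ext fun w => by simp [h w])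
  have hΨinj : Function.Injective Ψ := by
    refine (injective_iff_map_eq_zero Ψ).mpr ?_
    rintro ⟨ψ, t⟩ h
    have h' : ∀ w, (ψ (Submodule.Quotient.mk w) : W) + t • w = 0 := fun w => by
      rw [← hΨ, h]; rfl
    have ht : t = 0 := by
      by_contra ht
      obtain ⟨w, hw⟩ := hKne
      refine hw ?_
      have hwK : t • w ∈ K := by
        rw [← neg_eq_of_add_eq_zero_right (h' w)]
        exact K.neg_mem (ψ _).2
      have h2 := hXK ⟨_, hwK⟩
      simp only [map_smul] at h2
      exact smul_right_injective W ht h2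
    subst ht
    refine Prod.ext (Submodule.linearMap_qext _ (LinearMap.ext fun w => Subtype.ext ?_)) rfl
    simpa using h' w
  have hlower := LinearMap.finrank_le_finrank_of_injective
    (f := Ψ.codRestrict C hΨC) (fun a b h => hΨinj (congrArg Subtype.val h))
  rw [Module.finrank_prod, Module.finrank_linearMap, Module.finrank_self, hdimI] at hlower
  rw [hcard] at horb
  nlinarith [horb, hlower, hupper]

/-- The general case, by composition factors. -/
theorem bound (S : Setup Z 1 μ 1) (β : MulAut Q) (hβ : ∀ z ∈ Z, β z = z) (βq : Equiv.Perm (Q ⧸ Z))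
    (hβq : ∀ y : Q, βq (y : Q ⧸ Z) = ((β y : Q) : Q ⧸ Z)) (reps : Finset (Q ⧸ Z))
    (hreps : ∀ c, ∃ i : ℕ, (βq ^ i) c ∈ reps) (horb : 4 * reps.card ≤ Nat.card (Q ⧸ Z)) :
    ∀ (n : ℕ) {W : Type*} [AddCommGroup W] [Module k W] [FiniteDimensional k W] [Nontrivial W]
      (σ : Q →* Module.End k W) (X : Module.End k W), finrank k W = n → IsScalar μ σ →
      Function.Injective X → (∀ y, X * σ y = σ (β y) * X) →
      2 * finrank k (LinearMap.ker (X - 1)) < finrank k W := by
  intro n
  induction n using Nat.strong_induction_on with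
  | _ n ih =>
  intro W _ _ _ _ σ X hn hσ hX hXσ
  by_cases hirr : ∀ U : Submodule k W,
      (∀ y, ∀ w ∈ U, σ y w ∈ U) → (∀ w ∈ U, X w ∈ U) → U = ⊥ ∨ U = ⊤
  · exact irred_bound S β hβ βq hβq reps hreps horb σ hσ X hX hXσ hirr
  push_neg at hirr
  obtain ⟨U, hU, hXU, hUb, hUt⟩ := hirr
  haveI : Nontrivial U := Submodule.nontrivial_iff_ne_bot.mpr hUb
  haveI : Nontrivial (W ⧸ U) := Submodule.Quotient.nontrivial_iff.mpr hUt
  have hsum := U.finrank_quotient_add_finrank
  have hpos1 : 0 < finrank k U := Module.finrank_pos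
  have hpos2 : 0 < finrank k (W ⧸ U) := Module.finrank_pos
  have h1 := ih (finrank k U) (by omega) (subHom σ U hU) (X.restrict hXU) rfl
    (fun r => LinearMap.ext fun u => Subtype.ext (by rw [subHom_apply, hσ]; rfl))
    (fun a b h => Subtype.ext (hX (congrArg Subtype.val h)))
    (fun y => LinearMap.ext fun u => Subtype.ext (LinearMap.congr_fun (hXσ y) (u : W)))
  have hXQ : U ≤ U.comap X := hXU
  have h2 := ih (finrank k (W ⧸ U)) (by omega) (quotHom σ U hU) (U.mapQ U X hXQ) rfl
    (fun r => Submodule.linearMap_qext _ (LinearMap.ext fun w => by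
      simp [hσ r]))
    (LinearMap.injective_iff_surjective.mpr fun q => by
      obtain ⟨w, rfl⟩ := Submodule.Quotient.mk_surjective U q
      obtain ⟨v, rfl⟩ := LinearMap.surjective_of_injective hX w
      exact ⟨Submodule.Quotient.mk v, rfl⟩)
    (fun y => Submodule.linearMap_qext _ (LinearMap.ext fun w =>
      congrArg Submodule.Quotient.mk (LinearMap.congr_fun (hXσ y) w)))
  have h3 := finrank_ker_le U (X - 1) (X.restrict hXU - 1) (U.mapQ U X hXQ - 1)
    (fun u => rfl) (fun v => rfl)
  omega

end Cfsg.Agent.Lib.Flavell19.Symplectic
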